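import Cfsg.Prelude.Def_Sporadic_a

/-! # Self-dual binary codes of length 24 with minimum weight at least 8 -/

set_option autoImplicit false

namespace Cfsg.Agent.Lib.Code24

open Finset

/-- Binary words. -/
abbrev W := Fin 24 → ZMod 2

/-- Support of a word. -/
def supp (u : W) : Finset (Fin 24) := univ.filter fun i => u i ≠ 0

theorem card_supp (u : W) : (supp u).card = hammingNorm u := rfl

theorem supp_inj : Function.Injective supp := fun u v h => funext fun i => by
  have := Finset.ext_iff.1 h i
  simp only [supp, mem_filter, mem_univ, true_and] at this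
  exact (by decide : ∀ a b : ZMod 2, (a ≠ 0 ↔ b ≠ 0) → a = b) _ _ this

/-- The word with a given support. -/
def toW (s : Finset (Fin 24)) : W := fun i => if i ∈ s then 1 else 0

theorem supp_toW (s : Finset (Fin 24)) : supp (toW s) = s := by ext i; simp [supp, toW]

theorem supp_add (u v : W) : supp (u + v) = (supp u ∪ supp v) \ (supp u ∩ supp v) := by
  ext i
  simp only [supp, mem_filter, mem_univ, true_and, mem_sdiff, mem_union, mem_inter, Pi.add_apply]
  exact (by decide : ∀ a b : ZMod 2, a + b ≠ 0 ↔ (a ≠ 0 ∨ b ≠ 0) ∧ ¬ (a ≠ 0 ∧ b ≠ 0)) _ _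

theorem norm_add (u v : W) :
    hammingNorm (u + v) + 2 * (supp u ∩ supp v).card = hammingNorm u + hammingNorm v := by
  rw [← card_supp, ← card_supp, ← card_supp, supp_add, card_sdiff_of_subset inter_subset_union]
  have := card_union_add_card_inter (supp u) (supp v)
  have := card_le_card (inter_subset_union (s := supp u) (t := supp v))
  omega

theorem sub_eq_add' (u v : W) : u - v = u + v := funext fun i => CharTwo.sub_eq_add _ _

theorem add_self' (u : W) : u + u = 0 := funext fun i => CharTwo.add_self_eq_zero _

theorem norm_one : hammingNorm (1 : W) = 24 := by decide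

/-- The standing hypotheses. -/
structure IsGolay (C : Submodule (ZMod 2) W) : Prop where
  dim : Module.finrank (ZMod 2) C = 12
  orth : ∀ v ∈ C, ∀ w ∈ C, ∑ i, v i * w i = 0
  min : ∀ w ∈ C, w ≠ 0 → 8 ≤ hammingNorm w

variable {C : Submodule (ZMod 2) W}

theorem card_code (h : IsGolay C) [Fintype C] : Fintype.card C = 4096 := by
  rw [Module.card_eq_pow_finrank (K := ZMod 2), h.dim, ZMod.card]; rfl

theorem even_norm (h : IsGolay C) {w : W} (hw : w ∈ C) : 2 ∣ hammingNorm w := by
  have h1 := h.orth w hw w hw
  rw [Finset.sum_congr rfl (g := fun i => if w i ≠ 0 then (1 : ZMod 2) else 0) (fun i _ =>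
    (by decide : ∀ a : ZMod 2, a * a = if a ≠ 0 then 1 else 0) _), Finset.sum_boole,
    ZMod.natCast_eq_zero_iff_even, even_iff_two_dvd] at h1
  exact h1

/-- The all-ones word belongs to the code. -/
theorem one_mem (h : IsGolay C) : (1 : W) ∈ C := by
  let B : LinearMap.BilinForm (ZMod 2) W := Matrix.toBilin' (1 : Matrix (Fin 24) (Fin 24) (ZMod 2))
  have hB : ∀ u v : W, B u v = ∑ i, u i * v i := fun u v => by
    simp [B, Matrix.toBilin'_apply', dotProduct]
  have hnd : B.Nondegenerate := Matrix.Nondegenerate.toBilin' (Matrix.nondegenerate_of_det_ne_zero (by simp))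
  have hrefl : B.IsRefl := fun u v e => by
    rw [hB] at e ⊢; rw [← e]; exact Finset.sum_congr rfl fun i _ => mul_comm _ _
  have hle : C ≤ B.orthogonal C := fun u hu => by
    rw [LinearMap.BilinForm.mem_orthogonal_iff]
    intro v hv
    rw [hB]; exact h.orth v hv u hu
  have hfr : Module.finrank (ZMod 2) (B.orthogonal C) = 12 := by
    rw [LinearMap.BilinForm.finrank_orthogonal hnd, h.dim, Module.finrank_fin_fun]
  have heq := Submodule.eq_of_le_of_finrank_eq hle (h.dim.trans hfr.symm)
  rw [heq, LinearMap.BilinForm.mem_orthogonal_iff]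
  intro v hv
  rw [hB]
  have h2 := even_norm h hv
  rw [Finset.sum_congr rfl (g := fun i => if v i ≠ 0 then (1 : ZMod 2) else 0) (fun i _ => by
    rw [Pi.one_apply, mul_one]; exact (by decide : ∀ a : ZMod 2, a = if a ≠ 0 then 1 else 0) _),
    Finset.sum_boole, ZMod.natCast_eq_zero_iff_even, even_iff_two_dvd]
  exact h2

/-- No word has weight 10 (sphere packing in the residual code). -/
theorem no_ten (h : IsGolay C) {w : W} (hw : w ∈ C) : hammingNorm w ≠ 10 := by
  classical
  intro h10
  haveI : Fintype C := Fintype.ofFinite _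
  have hw0 : w ≠ 0 := fun e => by rw [e, hammingNorm_zero] at h10; omega
  let α := {i : Fin 24 // w i = 0}
  have hα : Fintype.card α = 14 := by
    rw [Fintype.card_subtype]
    have h1 := Finset.card_filter_add_card_filter_not (s := (univ : Finset (Fin 24))) (p := fun i => w i = 0)
    have h2 : (univ.filter fun i => ¬ w i = 0).card = 10 := h10
    simp only [card_univ, Fintype.card_fin] at h1
    omega
  let e : Option α → (α → ZMod 2) := fun o => match o with
    | none => 0
    | some a => Pi.single a 1
  let Φ : C × Option α → (α → ZMod 2) := fun p => (fun a => (p.1 : W) a.1) + e p.2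
  -- outside weight of a code word
  have key : ∀ v ∈ C, v ≠ 0 → v ≠ w → 3 ≤ (univ.filter fun a : α => v a.1 ≠ 0).card := by
    intro v hv hv0 hvw
    have h1 := h.min v hv hv0
    have h2 := h.min (v + w) (C.add_mem hv hw) fun e => hvw (by
      rw [← add_zero v, ← add_self' w, ← add_assoc, e, zero_add])
    have h3 := norm_add v w
    have h4 : (supp v \ supp w).card + (supp v ∩ supp w).card = hammingNorm v :=
      card_sdiff_add_card_inter _ _
    have h5 : (univ.filter fun a : α => v a.1 ≠ 0).card = (supp v \ supp w).card := by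
      rw [← card_map (Function.Embedding.subtype _)]
      congr 1
      ext i
      simp [supp, α, and_comm]
    omega
  have hfib : ∀ q ∈ univ.image Φ, ((univ : Finset (C × Option α)).filter fun p => Φ p = q).card ≤ 2 := by
    intro q hq
    obtain ⟨⟨v₀, o₀⟩, -, rfl⟩ := mem_image.1 hq
    calc _ ≤ ({(v₀, o₀), (v₀ + ⟨w, hw⟩, o₀)} : Finset (C × Option α)).card := card_le_card ?_
      _ ≤ 2 := card_le_two
    rintro ⟨v, o⟩ hp
    simp only [mem_filter, mem_univ, true_and, Φ] at hp
    have hsupp : (fun a : α => ((v : W) + v₀) a.1) = e o + e o₀ := funext fun a => by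
      have := congrFun hp a
      simp only [Pi.add_apply] at this ⊢
      exact (by decide : ∀ a b c d : ZMod 2, a + b = c + d → a + c = b + d) _ _ _ _ this
    have hsmall : (univ.filter fun a : α => ((v : W) + v₀) a.1 ≠ 0).card ≤ 2 := by
      refine le_trans (card_le_card (t := o.toFinset ∪ o₀.toFinset) ?_) ?_
      · intro a ha
        rw [mem_filter, congrFun hsupp a] at ha
        cases o <;> cases o₀ <;> simp [e, Pi.single_apply] at ha ⊢ <;>
          first | exact ha | (by_contra hn; push Not at hn; exact ha (by simp [hn.1, hn.2]))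
      · refine le_trans (card_union_le _ _) ?_
        cases o <;> cases o₀ <;> simp
    have hmem : (v : W) + v₀ = 0 ∨ (v : W) + v₀ = w := by
      by_contra hne
      push Not at hne
      have := key _ (C.add_mem v.2 v₀.2) hne.1 hne.2
      omega
    have hz : ∀ a : α, ((v : W) + v₀) a.1 = 0 := fun a => by
      rcases hmem with e' | e' <;> rw [e']
      · rfl
      · exact a.2
    have ho : o = o₀ := by
      have h0 : e o + e o₀ = 0 := by rw [← hsupp]; exact funext hz
      cases o with
      | none => cases o₀ with
        | none => rfl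
        | some b => have := congrFun h0 b; simp [e] at this
      | some a => cases o₀ with
        | none => have := congrFun h0 a; simp [e] at this
        | some b =>
          by_contra hne
          have hab : a ≠ b := fun e' => hne (congrArg some e')
          have := congrFun h0 a; simp [e, hab] at this
    subst ho
    simp only [mem_insert, mem_singleton, Prod.mk.injEq, and_true]
    rcases hmem with e' | e'
    · left; apply Subtype.ext; rw [← sub_eq_add', sub_eq_zero] at e'; exact e'
    · right; apply Subtype.ext; rw [Submodule.coe_add]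
      show (v : W) = v₀ + w
      rw [← e', add_comm (v : W), ← add_assoc, add_self', zero_add]
  have hc := Finset.card_le_mul_card_image univ 2 hfib
  have h2 : (univ.image Φ).card ≤ 16384 := by
    refine le_trans (card_le_univ _) ?_
    rw [Fintype.card_fun, ZMod.card, hα]; rfl
  rw [card_univ, Fintype.card_prod, Fintype.card_option, hα, card_code h] at hc
  omega

theorem four_dvd (h : IsGolay C) {w : W} (hw : w ∈ C) : 4 ∣ hammingNorm w := by
  by_cases h0 : w = 0
  · simp [h0]
  have h1 := h.min w hw h0
  have h2 := even_norm h hw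
  have h3 : hammingNorm w ≤ 24 := le_trans hammingNorm_le_card_fintype le_rfl
  have h4 := norm_add w 1
  have h5 : (supp w ∩ supp (1 : W)) = supp w := by ext i; simp [supp]
  rw [h5, card_supp, norm_one] at h4
  have h6 := no_ten h hw
  have h7 := no_ten h (C.add_mem hw (one_mem h))
  by_cases h8 : w + 1 = 0
  · rw [h8, hammingNorm_zero] at h4; omega
  have h9 := h.min _ (C.add_mem hw (one_mem h)) h8
  omega

/-- Words of weight at most 4. -/
def light : Finset W := univ.filter fun u => hammingNorm u ≤ 4

theorem card_weight (k : ℕ) : (univ.filter fun u : W => hammingNorm u = k).card = Nat.choose 24 k := by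
  calc _ = ((univ : Finset (Fin 24)).powersetCard k).card := by
        refine card_bij' (fun u _ => supp u) (fun s _ => toW s) ?_ ?_ ?_ ?_
        · intro u hu; simp only [mem_filter] at hu; simp [mem_powersetCard, card_supp, hu.2]
        · intro s hs; simp only [mem_powersetCard] at hs
          rw [mem_filter, ← card_supp, supp_toW]; exact ⟨mem_univ _, hs.2⟩
        · intro u _; exact supp_inj (supp_toW _)
        · intro s _; exact supp_toW s
    _ = _ := by rw [card_powersetCard, card_univ, Fintype.card_fin]

/-- Two light words in one coset have weight four and disjoint supports. -/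
theorem light_pair (h : IsGolay C) {u v : W} (hu : hammingNorm u ≤ 4) (hv : hammingNorm v ≤ 4)
    (hd : u - v ∈ C) (hne : u ≠ v) :
    hammingNorm u = 4 ∧ hammingNorm v = 4 ∧ Disjoint (supp u) (supp v) := by
  have h1 := h.min _ hd (sub_ne_zero.2 hne)
  rw [sub_eq_add'] at h1
  have h2 := norm_add u v
  refine ⟨by omega, by omega, ?_⟩
  rw [disjoint_iff_inter_eq_empty, ← card_eq_zero]
  omega

/-- The coset of a word. -/
abbrev cls (C : Submodule (ZMod 2) W) (u : W) : W ⧸ C := Submodule.Quotient.mk u

theorem card_quot (h : IsGolay C) [Fintype (W ⧸ C)] : Fintype.card (W ⧸ C) = 4096 := by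
  rw [Module.card_eq_pow_finrank (K := ZMod 2), ZMod.card]
  have := Submodule.finrank_quotient_add_finrank C
  rw [Module.finrank_fin_fun, h.dim] at this
  rw [show Module.finrank (ZMod 2) (W ⧸ C) = 12 by omega]; rfl

/-- Every coset has one leader of weight at most three or six of weight four. -/
theorem coset_leaders (h : IsGolay C) (w : W) :
    (∃ u : W, {u : W | u - w ∈ C ∧ hammingNorm u ≤ 4} = {u} ∧ hammingNorm u ≤ 3) ∨
    ({u : W | u - w ∈ C ∧ hammingNorm u ≤ 4}.ncard = 6 ∧
      ∀ u ∈ {u : W | u - w ∈ C ∧ hammingNorm u ≤ 4}, hammingNorm u = 4 ∧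
        ∀ u' ∈ {u : W | u - w ∈ C ∧ hammingNorm u ≤ 4}, u ≠ u' → Disjoint (supp u) (supp u')) := by
  classical
  haveI : Fintype (W ⧸ C) := Fintype.ofFinite _
  set S3 := (univ : Finset W).filter fun u => hammingNorm u ≤ 3 with hS3
  set S4 := (univ : Finset W).filter fun u => hammingNorm u = 4 with hS4
  have hinj : Set.InjOn (cls C) (S3 : Set W) := by
    intro u hu v hv e
    by_contra hne
    simp only [hS3, coe_filter, mem_univ, true_and, Set.mem_setOf_eq] at hu hv
    have := (light_pair h (u := u) (v := v) (by omega) (by omega) ((Submodule.Quotient.eq C).1 e) hne).1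
    omega
  have hc3 : (S3.image (cls C)).card = 2325 := by
    rw [card_image_of_injOn hinj]
    have : S3 = (range 4).biUnion fun k => univ.filter fun u : W => hammingNorm u = k := by
      ext u; simp [hS3]; omega
    rw [this, card_biUnion]
    · rw [Finset.sum_congr rfl fun k _ => card_weight k]; decide +kernel
    · intro a _ b _ hab
      simp only [Function.onFun, disjoint_left, mem_filter]
      rintro x ⟨-, rfl⟩ ⟨-, rfl⟩; exact hab rfl
  set R := (univ : Finset (W ⧸ C)) \ S3.image (cls C) with hR
  have hcR : R.card = 1771 := by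
    rw [hR, card_sdiff_of_subset (subset_univ _), card_univ, card_quot h, hc3]
  have hmaps : ∀ u ∈ S4, cls C u ∈ R := by
    intro u hu
    simp only [hS4, mem_filter, mem_univ, true_and] at hu
    simp only [hR, mem_sdiff, mem_univ, true_and, mem_image, not_exists, not_and]
    intro v hv e
    simp only [hS3, mem_filter, mem_univ, true_and] at hv
    have hne : v ≠ u := fun e' => by rw [e', hu] at hv; omega
    have := (light_pair h (u := v) (v := u) (by omega) hu.le ((Submodule.Quotient.eq C).1 e) hne).1
    omega
  have hle : ∀ q ∈ R, (S4.filter fun u => cls C u = q).card ≤ 6 := by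
    intro q _
    have hd : ((S4.filter fun u => cls C u = q : Finset W) : Set W).PairwiseDisjoint supp := by
      intro u hu v hv hne
      simp only [hS4, coe_filter, mem_filter, mem_univ, true_and, Set.mem_setOf_eq] at hu hv
      exact (light_pair h hu.1.le hv.1.le ((Submodule.Quotient.eq C).1 (hu.2.trans hv.2.symm)) hne).2.2
    have h1 := card_le_univ ((S4.filter fun u => cls C u = q).biUnion supp)
    rw [card_biUnion hd, Fintype.card_fin,
      Finset.sum_congr rfl (g := fun _ => 4) (fun u hu => by
        simp only [hS4, mem_filter, mem_univ, true_and] at hu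
        rw [card_supp, hu.1]), sum_const, smul_eq_mul] at h1
    omega
  have hsum : ∑ q ∈ R, (S4.filter fun u => cls C u = q).card = ∑ _q ∈ R, 6 := by
    rw [← card_eq_sum_card_fiberwise hmaps, sum_const, hcR, hS4, card_weight]; decide +kernel
  have hsix := (sum_eq_sum_iff_of_le hle).1 hsum
  by_cases hw : cls C w ∈ S3.image (cls C)
  · left
    obtain ⟨u, hu, e⟩ := mem_image.1 hw
    simp only [hS3, mem_filter, mem_univ, true_and] at hu
    refine ⟨u, Set.eq_singleton_iff_unique_mem.2 ⟨⟨(Submodule.Quotient.eq C).1 e, by omega⟩, ?_⟩, hu⟩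
    rintro v ⟨hv, hv4⟩
    by_contra hne
    have e' : cls C v = cls C u := ((Submodule.Quotient.eq C).2 hv).trans e.symm
    have := (light_pair h hv4 (by omega : hammingNorm u ≤ 4) ((Submodule.Quotient.eq C).1 e') hne).2.1
    omega
  · right
    have hq : cls C w ∈ R := by rw [hR, mem_sdiff]; exact ⟨mem_univ _, hw⟩
    have hset : {u : W | u - w ∈ C ∧ hammingNorm u ≤ 4} = ↑(S4.filter fun u => cls C u = cls C w) := by
      ext u
      simp only [hS4, coe_filter, mem_filter, mem_univ, true_and, Set.mem_setOf_eq, Submodule.Quotient.eq]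
      constructor
      · rintro ⟨h1, h2⟩
        refine ⟨?_, h1⟩
        by_contra h3
        exact hw (mem_image.2 ⟨u, by simp only [hS3, mem_filter, mem_univ, true_and]; omega,
          (Submodule.Quotient.eq C).2 h1⟩)
      · rintro ⟨h1, h2⟩; exact ⟨h2, h1.le⟩
    refine ⟨by rw [hset, Set.ncard_coe_finset]; exact hsix _ hq, fun u hu => ⟨?_, fun v hv hne => ?_⟩⟩
    · rw [hset] at hu
      simp only [hS4, coe_filter, mem_filter, mem_univ, true_and, Set.mem_setOf_eq] at hu
      exact hu.1
    · refine (light_pair h hu.2 hv.2 ?_ hne).2.2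
      have := C.sub_mem hu.1 hv.1
      rwa [sub_sub_sub_cancel_right] at this

/-- Five coordinates lie in a unique word of weight eight. -/
theorem octad_unique (h : IsGolay C) {s : Finset (Fin 24)} (hs : s.card = 5) :
    ∃! o : W, (o ∈ C ∧ hammingNorm o = 8) ∧ s ⊆ supp o := by
  classical
  obtain ⟨i, hi⟩ := card_pos.1 (by omega : 0 < s.card)
  set T := s.erase i with hT
  have hT4 : T.card = 4 := by rw [hT, card_erase_of_mem hi, hs]
  set t := toW T with ht
  have hnt : hammingNorm t = 4 := by rw [← card_supp, ht, supp_toW, hT4]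
  have huniq : ∀ a b : W, (a ∈ C ∧ hammingNorm a = 8) ∧ s ⊆ supp a → (b ∈ C ∧ hammingNorm b = 8) ∧ s ⊆ supp b → a = b := by
    rintro a b ⟨⟨ha, ha8⟩, has⟩ ⟨⟨hb, hb8⟩, hbs⟩
    by_contra hne
    have h1 := h.min (a - b) (C.sub_mem ha hb) (sub_ne_zero.2 hne)
    rw [sub_eq_add'] at h1
    have h2 := norm_add a b
    have h3 := card_le_card (subset_inter has hbs)
    omega
  suffices hex : ∃ o : W, (o ∈ C ∧ hammingNorm o = 8) ∧ s ⊆ supp o by
    obtain ⟨o, ho⟩ := hex; exact ⟨o, ho, fun o' ho' => huniq _ _ ho' ho⟩
  rcases coset_leaders h t with ⟨u, hu, hu3⟩ | ⟨h6, hdis⟩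
  · exfalso
    have : t ∈ ({u : W | u - t ∈ C ∧ hammingNorm u ≤ 4}) := ⟨by simp, hnt.le⟩
    rw [hu, Set.mem_singleton_iff] at this
    rw [this] at hnt; omega
  set U := {u : W | u - t ∈ C ∧ hammingNorm u ≤ 4} with hU
  have htU : t ∈ U := ⟨by simp, hnt.le⟩
  let F := U.toFinite.toFinset
  have hd : ((F : Finset W) : Set W).PairwiseDisjoint supp := fun a ha b hb hne => by
    simp only [F, Set.Finite.coe_toFinset] at ha hb
    exact (hdis a ha).2 b hb hne
  have hcov : F.biUnion supp = univ := by
    apply eq_univ_of_card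
    rw [card_biUnion hd, Finset.sum_congr rfl (g := fun _ => 4) (fun u hu => by
      rw [card_supp, (hdis u (U.toFinite.mem_toFinset.1 hu)).1]), sum_const, ← Set.ncard_eq_toFinset_card, h6]
    simp
  obtain ⟨u, hu, hiu⟩ := mem_biUnion.1 (hcov ▸ mem_univ i : i ∈ F.biUnion supp)
  rw [Set.Finite.mem_toFinset] at hu
  have hne : u ≠ t := fun e => by
    rw [e, ht, supp_toW, hT] at hiu
    exact (notMem_erase i s) hiu
  have hdj := (hdis u hu).2 t htU hne
  refine ⟨u - t, ⟨hu.1, ?_⟩, ?_⟩
  · rw [sub_eq_add']
    have := norm_add u t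
    rw [disjoint_iff_inter_eq_empty.1 hdj, card_empty, (hdis u hu).1, hnt] at this
    omega
  · intro j hj
    rw [sub_eq_add', supp_add, disjoint_iff_inter_eq_empty.1 hdj, sdiff_empty, mem_union]
    by_cases e : j = i
    · exact Or.inl (e ▸ hiu)
    · right; rw [ht, supp_toW, hT]; exact mem_erase.2 ⟨e, hj⟩

/-- The octads span the code. -/
theorem span_octads (h : IsGolay C) : Submodule.span (ZMod 2) {w : W | w ∈ C ∧ hammingNorm w = 8} = C := by
  refine le_antisymm (Submodule.span_le.2 fun w hw => hw.1) fun w hw => ?_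
  induction hn : hammingNorm w using Nat.strong_induction_on generalizing w with
  | _ n ih =>
    by_cases h0 : w = 0
    · rw [h0]; exact Submodule.zero_mem _
    have h1 := h.min w hw h0
    obtain ⟨s, hs, hs5⟩ := exists_subset_card_eq (s := supp w) (n := 5) (by rw [card_supp]; omega)
    obtain ⟨o, ⟨⟨ho, ho8⟩, hso⟩, -⟩ := octad_unique h hs5
    have h2 := norm_add w o
    have h3 := card_le_card (subset_inter hs hso)
    have hmem := ih (hammingNorm (w + o)) (by omega) (w + o) (C.add_mem hw ho) rfl
    have := Submodule.add_mem _ hmem (Submodule.subset_span ⟨ho, ho8⟩)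
    rwa [add_assoc, add_self', add_zero] at this

end Cfsg.Agent.Lib.Code24
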