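import Cfsg.Agent.Lib.Code24.Basic
import Cfsg.Agent.Lib.Golay.Action

/-! # Coordinates of a code of length 24 at one of its words of weight eight -/

set_option autoImplicit false
set_option maxRecDepth 100000

namespace Cfsg.Agent.Lib.Code24

open Finset Cfsg Cfsg.Agent.Lib.Golay

/-- The affine function with coefficients `k`, as a mask on sixteen points. -/
def afm (k : ℕ) : ℕ :=
  (List.range 16).foldr (fun x acc =>
    if (pc (k &&& 15 &&& x) + (k >>> 4)) % 2 == 1 then 1 <<< x ||| acc else acc) 0

/-- The pairs of coordinates contained in `x`. -/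
def pairBits (x : ℕ) : ℕ :=
  (if x &&& 3 == 3 then 1 else 0) + (if x &&& 5 == 5 then 2 else 0) +
    (if x &&& 9 == 9 then 4 else 0) + (if x &&& 6 == 6 then 8 else 0) +
    (if x &&& 10 == 10 then 16 else 0) + (if x &&& 12 == 12 then 32 else 0)

/-- The quadratic function with coefficients `v`. -/
def qfm (v : ℕ) : ℕ :=
  (List.range 16).foldr (fun x acc =>
    if pc (v &&& pairBits x) % 2 == 1 then 1 <<< x ||| acc else acc) 0

theorem afm_lt : ∀ k < 32, afm k < 65536 := by decide +kernel

theorem afm_bit : ∀ c : Fin 4 → ZMod 2, ∀ a : ZMod 2, ∀ x : Fin 16,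
    (if (afm (∑ j, (c j).val * 2 ^ (j : ℕ) + a.val * 16)).testBit (x : ℕ) then (1 : ZMod 2) else 0) =
      (∑ j : Fin 4, c j * (if (x : ℕ).testBit (j : ℕ) then 1 else 0)) + a := by
  decide +kernel

variable {C : Submodule (ZMod 2) W}

theorem mem_of_orth (h : IsGolay C) {u : W} (hu : ∀ v ∈ C, ∑ i, v i * u i = 0) : u ∈ C := by
  let B : LinearMap.BilinForm (ZMod 2) W := Matrix.toBilin' (1 : Matrix (Fin 24) (Fin 24) (ZMod 2))
  have hB : ∀ u v : W, B u v = ∑ i, u i * v i := fun u v => by
    simp [B, Matrix.toBilin'_apply', dotProduct]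
  have hnd : B.Nondegenerate :=
    Matrix.Nondegenerate.toBilin' (Matrix.nondegenerate_of_det_ne_zero (by simp))
  have hle : C ≤ B.orthogonal C := fun w hw => by
    rw [LinearMap.BilinForm.mem_orthogonal_iff]
    intro v hv
    rw [hB]; exact h.orth v hv w hw
  have hfr : Module.finrank (ZMod 2) (B.orthogonal C) = 12 := by
    rw [LinearMap.BilinForm.finrank_orthogonal hnd, h.dim, Module.finrank_fin_fun]
  rw [Submodule.eq_of_le_of_finrank_eq hle (h.dim.trans hfr.symm),
    LinearMap.BilinForm.mem_orthogonal_iff]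
  intro v hv
  rw [hB]; exact hu v hv

theorem exists_octad (h : IsGolay C) : ∃ o ∈ C, hammingNorm o = 8 := by
  by_contra hno
  push Not at hno
  have := span_octads h
  rw [show {w : W | w ∈ C ∧ hammingNorm w = 8} = ∅ from
    Set.eq_empty_iff_forall_notMem.2 fun w hw => hno w hw.1 hw.2, Submodule.span_empty] at this
  have hd := h.dim
  rw [← this, finrank_bot] at hd
  omega

theorem zero_or_eight (h : IsGolay C) {o u : W} (ho : o ∈ C) (ho8 : hammingNorm o = 8) (hu : u ∈ C)
    (hs : supp u ⊆ supp o) : u = 0 ∨ u = o := by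
  by_cases h0 : u = 0
  · exact Or.inl h0
  right
  apply supp_inj
  refine Finset.eq_of_subset_of_card_le hs ?_
  rw [card_supp, card_supp, ho8]
  exact h.min u hu h0

theorem mul_self2 : ∀ a : ZMod 2, a * a = a := by decide

theorem ne_zero_eq_one : ∀ a : ZMod 2, a ≠ 0 → a = 1 := by decide

/-- Standard coordinates at an octad. -/
theorem exists_frame (h : IsGolay C) :
    ∃ e : GolayPt ≃ Fin 24,
      (∀ k < 32, (fun a => word (afm k <<< 8) (e.symm a)) ∈ C) ∧
      (∀ c ∈ C, (∀ p, ix p < 8 → c (e p) = 0) →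
        ∃ k < 32, ∀ p, c (e p) = word (afm k <<< 8) p) ∧
      (∀ i < 7, ∃ m < 65536,
        (fun a => word (1 ||| 1 <<< (i + 1) ||| m <<< 8) (e.symm a)) ∈ C) ∧
      ∀ c ∈ C, ∑ i : Fin 8, c (e (pt i)) = 0 := by
  classical
  obtain ⟨o, ho, ho8⟩ := exists_octad h
  set S := supp o with hS
  have hS8 : S.card = 8 := ho8
  let os : Fin 8 → Fin 24 := fun i => (S.equivFin.symm (i.cast hS8.symm)).1
  have hos : Function.Injective os := fun i j e =>
    Fin.ext (by simpa using congrArg Fin.val (S.equivFin.symm.injective (Subtype.ext e)))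
  have hosS : ∀ i, os i ∈ S := fun i => Finset.coe_mem _
  have hsurS : ∀ a ∈ S, ∃ i, os i = a := fun a ha =>
    ⟨(S.equivFin ⟨a, ha⟩).cast hS8, by simp [os]⟩
  have hone : ∀ i, o (os i) = 1 := fun i =>
    ne_zero_eq_one _ (Finset.mem_filter.1 (hosS i)).2
  have hoff : ∀ a ∉ S, o a = 0 := fun a ha => by
    by_contra hne; exact ha (Finset.mem_filter.2 ⟨Finset.mem_univ _, hne⟩)
  have sumS : ∀ (u c : W), (∀ a ∉ S, u a = 0) → ∑ a, c a * u a = ∑ i, c (os i) * u (os i) := by
    intro u c hu
    rw [← Finset.sum_image (f := fun a => c a * u a) (s := Finset.univ) (g := os) hos.injOn]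
    refine (Finset.sum_subset (Finset.subset_univ _) fun a _ ha => ?_).symm
    rw [hu a, mul_zero]
    intro haS
    obtain ⟨i, rfl⟩ := hsurS a haS
    exact ha (Finset.mem_image_of_mem _ (Finset.mem_univ i))
  let r : C →ₗ[ZMod 2] (Fin 8 → ZMod 2) :=
    (LinearMap.funLeft (ZMod 2) (ZMod 2) os).comp C.subtype
  have hr : ∀ (c : C) i, r c i = (c : W) (os i) := fun c i => rfl
  have heven : ∀ c ∈ C, ∑ i, c (os i) = 0 := by
    intro c hc
    have := h.orth c hc o ho
    rw [sumS o c hoff] at this
    simpa [hone] using this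
  have hconst : ∀ x : Fin 8 → ZMod 2, (∀ c ∈ C, ∑ i, c (os i) * x i = 0) → ∀ i j, x i = x j := by
    intro x hx
    let u : W := fun a => if ha : ∃ i, os i = a then x ha.choose else 0
    have hu : ∀ i, u (os i) = x i := fun i => by
      have ha : ∃ j, os j = os i := ⟨i, rfl⟩
      simp only [u, dif_pos ha]
      exact congrArg x (hos ha.choose_spec)
    have hu0 : ∀ a ∉ S, u a = 0 := fun a ha => by
      simp only [u]
      rw [dif_neg]
      rintro ⟨i, rfl⟩; exact ha (hosS i)
    have huC : u ∈ C := mem_of_orth h fun v hv => by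
      rw [sumS u v hu0]
      simpa [hu] using hx v hv
    intro i j
    rcases zero_or_eight h ho ho8 huC (fun a ha => by
      by_contra hc; exact (Finset.mem_filter.1 ha).2 (hu0 a hc)) with e | e
    · rw [← hu i, ← hu j, e]; rfl
    · rw [← hu i, ← hu j, e, hone, hone]
  -- pairs occur
  have hpair : ∀ i : Fin 8, i ≠ 0 → ∃ c : C, r c = Pi.single 0 1 + Pi.single i 1 := by
    intro i hi
    suffices Pi.single 0 1 + Pi.single i 1 ∈ LinearMap.range r from this
    by_contra hn
    obtain ⟨f, hf, hfb⟩ := Submodule.exists_dual_map_eq_bot_of_notMem hn inferInstance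
    have hfx : ∀ y : Fin 8 → ZMod 2, f y = ∑ j, y j * f (Pi.single j 1) := by
      intro y
      conv_lhs => rw [pi_eq_sum_univ' y]
      simp [map_sum]
    have hzero : ∀ c : C, f (r c) = 0 := fun c => by
      have : f (r c) ∈ (LinearMap.range r).map f := Submodule.mem_map_of_mem ⟨c, rfl⟩
      rwa [hfb, Submodule.mem_bot] at this
    have hx := hconst (fun j => f (Pi.single j 1)) (fun c hc => by
      have := hzero ⟨c, hc⟩
      rw [hfx] at this
      exact this) 0 i
    apply hf
    rw [map_add, ← hx]
    exact CharTwo.add_self_eq_zero _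
  have hrange : LinearMap.range r = LinearMap.ker (∑ i : Fin 8, LinearMap.proj i :
      (Fin 8 → ZMod 2) →ₗ[ZMod 2] ZMod 2) := by
    refine le_antisymm ?_ ?_
    · rintro _ ⟨c, rfl⟩
      simp only [LinearMap.mem_ker, LinearMap.coe_sum, Finset.sum_apply, LinearMap.coe_proj,
        Function.eval]
      exact heven c c.2
    · intro y hy
      simp only [LinearMap.mem_ker, LinearMap.coe_sum, Finset.sum_apply, LinearMap.coe_proj,
        Function.eval] at hy
      have e : y = ∑ i : Fin 7, y i.succ • (Pi.single 0 1 + Pi.single i.succ 1 : Fin 8 → ZMod 2) := by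
        funext j
        rw [Fin.sum_univ_succ] at hy
        simp only [Finset.sum_apply, Pi.smul_apply, Pi.add_apply, smul_eq_mul]
        induction j using Fin.cases with
        | zero =>
          simp only [Pi.single_eq_same, Pi.single_eq_of_ne (Fin.succ_ne_zero _).symm, add_zero,
            mul_one]
          exact (by decide : ∀ a b : ZMod 2, a + b = 0 → a = b) _ _ hy
        | succ j =>
          rw [Finset.sum_eq_single j]
          · simp
          · intro b _ hb
            simp [Pi.single_eq_of_ne (Fin.succ_ne_zero j),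
              Pi.single_eq_of_ne (show j.succ ≠ b.succ from fun e => hb (Fin.succ_injective _ e).symm)]
          · simp
      rw [e]
      refine Submodule.sum_mem _ fun i _ => Submodule.smul_mem _ _ ?_
      obtain ⟨c, hc⟩ := hpair i.succ (Fin.succ_ne_zero i)
      exact ⟨c, hc⟩
  have hr7 : Module.finrank (ZMod 2) (LinearMap.range r) = 7 := by
    rw [hrange]
    set s8 : (Fin 8 → ZMod 2) →ₗ[ZMod 2] ZMod 2 := ∑ i : Fin 8, LinearMap.proj i with hs8
    have hsur : LinearMap.range s8 = ⊤ := LinearMap.range_eq_top.2 fun a =>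
      ⟨Pi.single 0 a, by simp [hs8]⟩
    have := LinearMap.finrank_range_add_finrank_ker s8
    rw [hsur, finrank_top, Module.finrank_self, Module.finrank_fin_fun] at this
    omega
  have hk5 : Module.finrank (ZMod 2) (LinearMap.ker r) = 5 := by
    have := LinearMap.finrank_range_add_finrank_ker r
    rw [hr7, h.dim] at this
    omega
  obtain ⟨p0, hp0⟩ : ∃ p, p ∉ S := by
    by_contra! hall
    rw [Finset.eq_univ_of_forall hall, Finset.card_univ, Fintype.card_fin] at hS8
    omega
  let ev : LinearMap.ker r →ₗ[ZMod 2] ZMod 2 :=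
    (LinearMap.proj p0).comp (C.subtype.comp (LinearMap.ker r).subtype)
  let oneR : LinearMap.ker r := ⟨⟨1 + o, C.add_mem (one_mem h) ho⟩, by
    rw [LinearMap.mem_ker]; funext i
    show (1 : ZMod 2) + o (os i) = 0
    rw [hone]; decide⟩
  have hev : ev oneR = 1 := by
    show (1 : ZMod 2) + o p0 = 1
    rw [hoff p0 hp0, add_zero]
  have hk4 : Module.finrank (ZMod 2) (LinearMap.ker ev) = 4 := by
    have hsur : LinearMap.range ev = ⊤ := LinearMap.range_eq_top.2 fun a =>
      ⟨a • oneR, by rw [map_smul, hev, smul_eq_mul, mul_one]⟩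
    have := LinearMap.finrank_range_add_finrank_ker ev
    rw [hsur, finrank_top, Module.finrank_self, hk5] at this
    omega
  let b := Module.finBasisOfFinrankEq (ZMod 2) (LinearMap.ker ev) hk4
  let kw : Fin 4 → W := fun j => (((b j : LinearMap.ker r) : C) : W)
  have hkC : ∀ j, kw j ∈ C := fun j => ((b j : LinearMap.ker r) : C).2
  have hkS : ∀ j i, kw j (os i) = 0 := fun j i =>
    congrFun (LinearMap.mem_ker.1 (b j : LinearMap.ker r).2) i
  have hrepr : ∀ c ∈ C, (∀ i, c (os i) = 0) →
      ∃ (cf : Fin 4 → ZMod 2) (a : ZMod 2), c = ∑ j, cf j • kw j + a • (1 + o) := by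
    intro c hc h0
    let cK : LinearMap.ker r := ⟨⟨c, hc⟩, LinearMap.mem_ker.2 (funext h0)⟩
    have hz : cK - ev cK • oneR ∈ LinearMap.ker ev := by
      rw [LinearMap.mem_ker, map_sub, map_smul, hev, smul_eq_mul, mul_one, sub_self]
    refine ⟨fun j => b.repr ⟨_, hz⟩ j, ev cK, ?_⟩
    have hs := congrArg (fun z : LinearMap.ker ev => (((z : LinearMap.ker r) : C) : W))
      (b.sum_repr ⟨_, hz⟩)
    simp only [Submodule.coe_sum, Submodule.coe_smul, Submodule.coe_sub] at hs
    show c = ∑ j, b.repr ⟨_, hz⟩ j • kw j + ev cK • (1 + o)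
    rw [hs]
    simp [cK, oneR]
  -- the sixteen points are separated
  have hsep : ∀ p q, p ∉ S → q ∉ S → (∀ j, kw j p = kw j q) → p = q := by
    intro p q hp hq hk
    by_contra hne
    let f : C →ₗ[ZMod 2] ZMod 2 :=
      ((LinearMap.proj p : W →ₗ[ZMod 2] ZMod 2) + LinearMap.proj q).comp C.subtype
    have hker : f ∈ (LinearMap.ker r).dualAnnihilator := by
      rw [Submodule.mem_dualAnnihilator]
      intro c hc
      obtain ⟨cf, a, e⟩ := hrepr c c.2 (congrFun (LinearMap.mem_ker.1 hc))
      show (c : W) p + (c : W) q = 0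
      rw [e]
      simp only [Pi.add_apply, Finset.sum_apply, Pi.smul_apply, hoff p hp, hoff q hq, hk,
        Pi.one_apply, smul_eq_mul]
      exact CharTwo.add_self_eq_zero _
    rw [← LinearMap.range_dualMap_eq_dualAnnihilator_ker] at hker
    obtain ⟨g, hg⟩ := hker
    let y : Fin 8 → ZMod 2 := fun j => g (Pi.single j 1)
    let v : W := fun a => (if a = p then 1 else 0) + (if a = q then 1 else 0) +
      (if ha : ∃ i, os i = a then y ha.choose else 0)
    have hvo : ∀ i, v (os i) = y i := fun i => by
      have ha : ∃ j, os j = os i := ⟨i, rfl⟩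
      simp only [v, dif_pos ha, if_neg (fun e : os i = p => hp (e ▸ hosS i)),
        if_neg (fun e : os i = q => hq (e ▸ hosS i)), zero_add]
      exact congrArg y (hos ha.choose_spec)
    have hvC : v ∈ C := mem_of_orth h fun c hc => by
      have hfc : c p + c q = g (r ⟨c, hc⟩) := (DFunLike.congr_fun hg ⟨c, hc⟩).symm
      have hgy : g (r ⟨c, hc⟩) = ∑ i, c (os i) * y i := by
        conv_lhs => rw [pi_eq_sum_univ' (r ⟨c, hc⟩)]
        simp [map_sum, hr, y]
      let u : W := fun a => if ha : ∃ i, os i = a then y ha.choose else 0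
      have hu : ∀ i, u (os i) = y i := fun i => by
        have ha : ∃ j, os j = os i := ⟨i, rfl⟩
        simp only [u, dif_pos ha]
        exact congrArg y (hos ha.choose_spec)
      have e : ∑ a, c a * v a = c p + c q + ∑ a, c a * u a := by
        simp only [v, u, mul_add, Finset.sum_add_distrib, mul_ite, mul_one, mul_zero,
          Finset.sum_ite_eq', Finset.mem_univ, if_true]
      rw [e, sumS u c (fun a ha => by
        simp only [u]; rw [dif_neg]; rintro ⟨i, rfl⟩; exact ha (hosS i)),
        Finset.sum_congr rfl (fun i _ => by rw [hu i]), hfc, hgy]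
      exact CharTwo.add_self_eq_zero _
    have hn := norm_add v o
    have hvp : v p = 1 := by
      simp only [v, if_neg hne, if_true, add_zero]
      rw [dif_neg]
      · rw [add_zero]
      · rintro ⟨i, hi⟩; exact hp (hi ▸ hosS i)
    have h1 : v ≠ 0 := fun e => by rw [e] at hvp; exact zero_ne_one hvp
    have h2 : v + o ≠ 0 := fun e => by
      have := congrFun e p
      rw [Pi.add_apply, hvp, hoff p hp, Pi.zero_apply] at this
      exact absurd this (by decide)
    have w1 := h.min v hvC h1
    have w2 := h.min _ (C.add_mem hvC ho) h2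
    have h4 : hammingNorm v ≤ 2 + (supp v ∩ supp o).card := by
      rw [← card_supp, ← Finset.card_sdiff_add_card_inter (supp v) (supp o)]
      refine Nat.add_le_add_right ((Finset.card_le_card (t := {p, q}) ?_).trans Finset.card_le_two) _
      intro a ha
      obtain ⟨hav, haS⟩ := Finset.mem_sdiff.1 ha
      simp only [Finset.mem_insert, Finset.mem_singleton]
      by_contra hcon
      push Not at hcon
      apply (Finset.mem_filter.1 hav).2
      simp only [v, if_neg hcon.1, if_neg hcon.2]
      rw [dif_neg]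
      · simp
      · rintro ⟨i, hi⟩; exact haS (hi ▸ hosS i)
    omega
  let φ : {p // p ∉ S} → (Fin 4 → ZMod 2) := fun p j => kw j p.1
  have hφ : Function.Bijective φ := by
    refine (Fintype.bijective_iff_injective_and_card φ).2
      ⟨fun a b e => Subtype.ext (hsep _ _ a.2 b.2 (congrFun e)), ?_⟩
    rw [Fintype.card_subtype_compl, Fintype.card_fin, Fintype.card_coe, hS8, Fintype.card_fun,
      ZMod.card, Fintype.card_fin]
    norm_num
  choose rs hrs using fun x : Fin 16 =>
    hφ.2 fun j => if (x : ℕ).testBit (j : ℕ) then 1 else 0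
  have hrsinj : Function.Injective rs := fun x y e => by
    have he : ∀ x y : Fin 16, (∀ j : Fin 4, (x : ℕ).testBit (j : ℕ) = (y : ℕ).testBit (j : ℕ)) →
        x = y := by decide
    refine he x y fun j => ?_
    have := congrFun ((hrs x).symm.trans ((congrArg φ e).trans (hrs y))) j
    by_cases h1 : (x : ℕ).testBit (j : ℕ) = true <;>
      by_cases h2 : (y : ℕ).testBit (j : ℕ) = true <;> simp_all
  let e0 : GolayPt → Fin 24 := fun p =>
    if hp : ix p < 8 then os ⟨ix p, hp⟩ else (rs ⟨ix p - 8, by have := ix_lt p; omega⟩).1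
  have he0 : Function.Bijective e0 := by
    refine (Fintype.bijective_iff_injective_and_card e0).2 ⟨fun p q hpq => ?_, rfl⟩
    simp only [e0] at hpq
    apply ix_inj
    split_ifs at hpq with hp hq hq
    · simpa using congrArg Fin.val (hos hpq)
    · exact absurd (hpq ▸ hosS _) (rs _).2
    · exact absurd (hpq.symm ▸ hosS _) (rs _).2
    · have := congrArg Fin.val (hrsinj (Subtype.ext hpq))
      simp at this
      omega
  let e := Equiv.ofBijective e0 he0
  have he_lo : ∀ i : Fin 8, e (pt i) = os i := fun i => by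
    show e0 (pt i) = os i
    have hix : ix (pt i) = i := ix_pt (by omega)
    simp only [e0, hix, i.2, dif_pos]
  have hlow : ∀ c : W, (∀ p, ix p < 8 → c (e p) = 0) ↔ ∀ i : Fin 8, c (os i) = 0 := fun c => by
    refine ⟨fun hc i => ?_, fun hc p hp => ?_⟩
    · rw [← he_lo]; exact hc _ (by rw [ix_pt (by omega)]; exact i.2)
    · show c (e0 p) = 0
      simp only [e0, dif_pos hp, hc]
  have haff : ∀ (cf : Fin 4 → ZMod 2) (a : ZMod 2) (p : GolayPt),
      (∑ j, cf j • kw j + a • (1 + o)) (e p) =
        word (afm (∑ j, (cf j).val * 2 ^ (j : ℕ) + a.val * 16) <<< 8) p := by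
    intro cf a p
    show _ = if (_ : ℕ).testBit (ix p) then (1 : ZMod 2) else 0
    simp only [Pi.add_apply, Finset.sum_apply, Pi.smul_apply, Pi.one_apply, smul_eq_mul,
      Nat.testBit_shiftLeft]
    show (∑ j, cf j * kw j (e0 p)) + a * (1 + o (e0 p)) = _
    by_cases hp : ix p < 8
    · have hge : ¬ 8 ≤ ix p := by omega
      simp only [e0, dif_pos hp, hkS, hone, mul_zero, Finset.sum_const_zero, zero_add, hge,
        decide_false, Bool.false_and, Bool.false_eq_true, if_false]
      rw [show (1 : ZMod 2) + 1 = 0 from by decide, mul_zero]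
    · set x : Fin 16 := ⟨ix p - 8, by have := ix_lt p; omega⟩
      have hge : 8 ≤ ix p := by omega
      simp only [e0, dif_neg hp, hge, decide_true, Bool.true_and]
      have hx : ∀ j, kw j (rs x).1 = if (x : ℕ).testBit (j : ℕ) then 1 else 0 := congrFun (hrs x)
      show ∑ j, cf j * kw j (rs x).1 + a * (1 + o (rs x).1) = _
      simp only [hx, hoff _ (rs x).2, add_zero, mul_one]
      exact (afm_bit cf a x).symm
  have hklt : ∀ (cf : Fin 4 → ZMod 2) (a : ZMod 2),
      ∑ j, (cf j).val * 2 ^ (j : ℕ) + a.val * 16 < 32 := by decide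
  have hkex : ∀ k < 32, ∃ (cf : Fin 4 → ZMod 2) (a : ZMod 2),
      ∑ j, (cf j).val * 2 ^ (j : ℕ) + a.val * 16 = k := by decide +kernel
  refine ⟨e, fun k hk => ?_, fun c hc h0 => ?_, fun i hi => ?_, fun c hc => ?_⟩
  · obtain ⟨cf, a, rfl⟩ := hkex k hk
    have hmem : ∑ j, cf j • kw j + a • (1 + o) ∈ C :=
      C.add_mem (Submodule.sum_mem _ fun j _ => C.smul_mem _ (hkC j))
        (C.smul_mem _ (C.add_mem (one_mem h) ho))
    convert hmem using 1
    funext b
    rw [← haff, e.apply_symm_apply]
  · obtain ⟨cf, a, hcc⟩ := hrepr c hc ((hlow c).1 h0)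
    exact ⟨_, hklt cf a, fun p => by rw [hcc]; exact haff cf a p⟩
  · obtain ⟨c, hc⟩ := hpair ⟨i + 1, by omega⟩ (fun e => by simpa using congrArg Fin.val e)
    set d : GolayPt → ZMod 2 := fun p => (c : W) (e p) with hd
    refine ⟨mask (support₂ d) >>> 8, ?_, ?_⟩
    · rw [Nat.shiftRight_eq_div_pow]
      have := mask_lt (support₂ d)
      omega
    · convert c.2 using 1
      funext b
      obtain ⟨p, rfl⟩ := e.surjective b
      rw [e.symm_apply_apply]
      show _ = d p
      conv_rhs => rw [← word_mask d]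
      have hb1 : (1 <<< (i + 1)).testBit (ix p) = decide (i + 1 = ix p) := by
        rw [Nat.one_shiftLeft, Nat.testBit_two_pow]
      simp only [word, Nat.testBit_or, hb1]
      simp only [Nat.testBit_shiftLeft, Nat.testBit_shiftRight]
      by_cases hp : ix p < 8
      · have hge : ¬ 8 ≤ ix p := by omega
        have hv := congrFun hc ⟨ix p, hp⟩
        rw [hr, Pi.add_apply, Pi.single_apply, Pi.single_apply] at hv
        have hd' : d p = (c : W) (os ⟨ix p, hp⟩) := by
          show (c : W) (e0 p) = _
          simp only [e0, dif_pos hp]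
        have hbit := testBit_mask (support₂ d) p
        simp only [support₂, Finset.mem_filter, Finset.mem_univ, true_and, hd', hv] at hbit ⊢
        simp only [hbit, hge, decide_false, Bool.false_and, Bool.or_false,
          Nat.testBit_two_pow, Fin.ext_iff, Fin.val_zero, show (1 : ℕ) = 2 ^ 0 from rfl]
        by_cases h1 : ix p = 0
        · simp [h1]
        · by_cases h2 : ix p = i + 1
          · simp [h1, h2]
          · simp [h1, h2, Ne.symm h1, Ne.symm h2]
      · have h8 : 8 ≤ ix p := by omega
        have e1 : Nat.testBit 1 (ix p) = false := by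
          rw [show (1 : ℕ) = 2 ^ 0 from rfl, Nat.testBit_two_pow]; simp; omega
        have e2 : i + 1 ≠ ix p := by omega
        simp only [e1, e2, decide_false, Bool.false_or,
          h8, decide_true, Bool.true_and, show 8 + (ix p - 8) = ix p by omega]
  · simpa [he_lo] using heven c hc

end Cfsg.Agent.Lib.Code24
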