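import Cfsg.Agent.Lib.Code24.Unique

/-! # Codes spanned by evenly meeting supports -/

set_option autoImplicit false
set_option maxRecDepth 100000

namespace Cfsg.Agent.Lib.Code24

open Finset Cfsg Cfsg.Agent.Lib.Golay

/-- The code spanned by a family of supports. -/
def spanCode (G : Set (Finset (Fin 24))) : Submodule (ZMod 2) W := Submodule.span (ZMod 2) (toW '' G)

theorem inner_supp (u v : W) : ∑ i, u i * v i = ((supp u ∩ supp v).card : ZMod 2) := by
  rw [← Finset.sum_filter_add_sum_filter_not Finset.univ (fun i => i ∈ supp u ∩ supp v),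
    Finset.filter_univ_mem,
    Finset.sum_eq_zero (s := Finset.filter _ _) (fun i hi => by
      have hz : ∀ a b : ZMod 2, ¬ (a ≠ 0 ∧ b ≠ 0) → a * b = 0 := by decide
      simp only [supp, Finset.mem_filter, Finset.mem_univ, true_and, Finset.mem_inter] at hi
      exact hz _ _ hi),
    add_zero, Finset.card_eq_sum_ones, Nat.cast_sum]
  refine Finset.sum_congr rfl fun i hi => ?_
  have ho : ∀ a b : ZMod 2, a ≠ 0 → b ≠ 0 → a * b = ((1 : ℕ) : ZMod 2) := by decide
  simp only [supp, Finset.mem_filter, Finset.mem_univ, true_and, Finset.mem_inter] at hi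
  exact ho _ _ hi.1 hi.2

theorem orth_iff {u v : W} : ∑ i, u i * v i = 0 ↔ 2 ∣ (supp u ∩ supp v).card := by
  rw [inner_supp, ZMod.natCast_eq_zero_iff_even, even_iff_two_dvd]

variable {G : Set (Finset (Fin 24))}

/-- A word meeting all supports evenly is orthogonal to the span. -/
theorem orth_span {u : W} (h : ∀ g ∈ G, 2 ∣ (supp u ∩ g).card) :
    ∀ v ∈ spanCode G, ∑ i, v i * u i = 0 := by
  intro v hv
  induction hv using Submodule.span_induction with
  | mem x hx =>
    obtain ⟨g, hg, rfl⟩ := hx
    rw [orth_iff, supp_toW, Finset.inter_comm]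
    exact h g hg
  | zero => simp
  | add x y _ _ hx hy => simp [add_mul, Finset.sum_add_distrib, hx, hy]
  | smul a x _ hx => simp [mul_assoc, ← Finset.mul_sum, hx]

theorem span_self_orth (h : ∀ g ∈ G, ∀ g' ∈ G, 2 ∣ (g ∩ g').card) :
    ∀ v ∈ spanCode G, ∀ w ∈ spanCode G, ∑ i, v i * w i = 0 := by
  intro v hv w hw
  induction hw using Submodule.span_induction with
  | mem x hx =>
    obtain ⟨g, hg, rfl⟩ := hx
    exact orth_span (fun g' hg' => by rw [supp_toW]; exact h g hg g' hg') v hv
  | zero => simp
  | add x y _ _ hx hy => simp [mul_add, Finset.sum_add_distrib, hx, hy]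
  | smul a x _ hx => simp [mul_left_comm, ← Finset.mul_sum, hx]

/-- The orthogonal complement for the standard form. -/
noncomputable def perp (C : Submodule (ZMod 2) W) : Submodule (ZMod 2) W :=
  (Matrix.toBilin' (1 : Matrix (Fin 24) (Fin 24) (ZMod 2))).orthogonal C

theorem mem_perp {C : Submodule (ZMod 2) W} {u : W} :
    u ∈ perp C ↔ ∀ v ∈ C, ∑ i, v i * u i = 0 := by
  rw [perp, LinearMap.BilinForm.mem_orthogonal_iff]
  simp only [Matrix.toBilin'_apply', Matrix.one_mulVec, dotProduct]

theorem perp_finrank (C : Submodule (ZMod 2) W) :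
    Module.finrank (ZMod 2) (perp C) + Module.finrank (ZMod 2) C = 24 := by
  have hnd : (Matrix.toBilin' (1 : Matrix (Fin 24) (Fin 24) (ZMod 2))).Nondegenerate :=
    Matrix.Nondegenerate.toBilin' (Matrix.nondegenerate_of_det_ne_zero (by simp))
  rw [perp, LinearMap.BilinForm.finrank_orthogonal hnd, Module.finrank_fin_fun]
  exact Nat.sub_add_cancel ((Submodule.finrank_le C).trans_eq (Module.finrank_fin_fun _))

theorem perp_perp (C : Submodule (ZMod 2) W) : perp (perp C) = C := by
  symm
  refine Submodule.eq_of_le_of_finrank_eq (fun c hc => mem_perp.2 fun v hv => ?_) ?_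
  · rw [← mem_perp.1 hv c hc]
    exact Finset.sum_congr rfl fun i _ => mul_comm _ _
  · have h1 := perp_finrank C
    have h2 := perp_finrank (perp C)
    exact (by omega : ∀ a b c : ℕ, b + a = 24 → c + b = 24 → a = c) _ _ _ h1 h2

theorem light_card : ((univ : Finset W).filter fun u => hammingNorm u ≤ 3).card = 2325 := by
  have : ((univ : Finset W).filter fun u => hammingNorm u ≤ 3) =
      (range 4).biUnion fun k => univ.filter fun u : W => hammingNorm u = k := by
    ext u; simp; omega
  rw [this, card_biUnion]
  · rw [Finset.sum_congr rfl fun k _ => card_weight k]; decide +kernel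
  · intro a _ b _ hab
    simp only [Function.onFun, disjoint_left, mem_filter]
    rintro x ⟨-, rfl⟩ ⟨-, rfl⟩; exact hab rfl

/-- Sphere packing. -/
theorem finrank_le_twelve (D : Submodule (ZMod 2) W) (h : ∀ w ∈ D, w ≠ 0 → 8 ≤ hammingNorm w) :
    Module.finrank (ZMod 2) D ≤ 12 := by
  classical
  haveI : Fintype D := Fintype.ofFinite _
  by_contra hgt
  push Not at hgt
  have hcard : 8192 ≤ Fintype.card D := by
    rw [Module.card_eq_pow_finrank (K := ZMod 2), ZMod.card]
    calc 8192 = 2 ^ 13 := rfl
      _ ≤ _ := Nat.pow_le_pow_right (by norm_num) hgt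
  let B := (univ : Finset W).filter fun u => hammingNorm u ≤ 3
  have hinj : Set.InjOn (fun p : D × W => (p.1 : W) + p.2) ↑((univ : Finset D) ×ˢ B) := by
    rintro ⟨c, e⟩ hp ⟨c', e'⟩ hq heq
    simp only [B, Finset.coe_product, Set.mem_prod, Finset.coe_univ, Set.mem_univ, true_and,
      Finset.coe_filter, Finset.mem_univ, Set.mem_ofPred_eq] at hp hq
    simp only at heq
    have hd : (c : W) + c' = e + e' := funext fun i =>
      (by decide : ∀ a b x y : ZMod 2, a + x = b + y → a + b = x + y) _ _ _ _ (congrFun heq i)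
    have hz : (c : W) + c' = 0 := by
      by_contra hne
      have h8 := h _ (D.add_mem c.2 c'.2) hne
      rw [hd] at h8
      have := norm_add e e'
      omega
    have hcc : c = c' := Subtype.ext (by rwa [← sub_eq_add', sub_eq_zero] at hz)
    subst hcc
    rw [add_left_cancel heq]
  have := Finset.card_le_univ (((univ : Finset D) ×ˢ B).image fun p => (p.1 : W) + p.2)
  rw [Finset.card_image_of_injOn hinj, Finset.card_product, Finset.card_univ, light_card,
    Fintype.card_fun, ZMod.card, Fintype.card_fin] at this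
  have : 8192 * 2325 ≤ 2 ^ 24 := le_trans (Nat.mul_le_mul_right _ hcard) this
  norm_num at this

/-- Evenly meeting supports that no light word meets evenly span a code with the parameters of the
binary code of length 24. -/
theorem span_isGolay (heven : ∀ g ∈ G, ∀ g' ∈ G, 2 ∣ (g ∩ g').card)
    (hdetect : ∀ v : Finset (Fin 24), v.Nonempty → v.card ≤ 7 → ∃ g ∈ G, ¬ 2 ∣ (v ∩ g).card) :
    IsGolay (spanCode G) := by
  have hself := span_self_orth heven
  have hmin : ∀ w ∈ perp (spanCode G), w ≠ 0 → 8 ≤ hammingNorm w := by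
    intro w hw hw0
    by_contra hlt
    push Not at hlt
    rw [← card_supp] at hlt
    obtain ⟨g, hg, hodd⟩ := hdetect (supp w) (by
      rw [← Finset.card_pos, card_supp]; exact hammingNorm_pos_iff.2 hw0) (by omega)
    have := mem_perp.1 hw (toW g) (Submodule.subset_span ⟨g, hg, rfl⟩)
    rw [orth_iff, supp_toW, Finset.inter_comm] at this
    exact hodd this
  have hle : spanCode G ≤ perp (spanCode G) := fun c hc => mem_perp.2 fun v hv => hself v hv c hc
  refine ⟨?_, hself, fun w hw => hmin w (hle hw)⟩
  have h1 := finrank_le_twelve _ hmin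
  have h2 := Submodule.finrank_mono hle
  have h3 := perp_finrank (spanCode G)
  omega

/-- The span of doubly even, evenly meeting supports is doubly even. -/
theorem span_four_dvd (h4 : ∀ g ∈ G, 4 ∣ g.card) (heven : ∀ g ∈ G, ∀ g' ∈ G, 2 ∣ (g ∩ g').card)
    {w : W} (hw : w ∈ spanCode G) : 4 ∣ hammingNorm w := by
  induction hw using Submodule.span_induction with
  | mem x hx =>
    obtain ⟨g, hg, rfl⟩ := hx
    rw [← card_supp, supp_toW]; exact h4 g hg
  | zero => simp
  | add x y hx hy ix iy =>
    have h := norm_add x y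
    have := orth_iff.1 (span_self_orth heven x hx y hy)
    omega
  | smul a x _ ix =>
    rcases (by decide : ∀ a : ZMod 2, a = 0 ∨ a = 1) a with rfl | rfl
    · simp
    · rwa [one_smul]

/-- A bijection of the coordinates onto the 24 points carries the supports of the code to the
supports of the length-24 code. -/
theorem exists_equiv_supports {C : Submodule (ZMod 2) W} (h : IsGolay C) :
    ∃ e : Fin 24 ≃ GolayPt, ∀ s : Finset (Fin 24),
      s.image e ∈ codeSets ↔ toW s ∈ C := by
  obtain ⟨e, he⟩ := exists_equiv_golay h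
  refine ⟨e, fun s => ?_⟩
  have hsupp : support₂ (fun p => toW s (e.symm p)) = s.image e := by
    ext p
    rw [Finset.mem_image]
    constructor
    · intro hp
      refine ⟨e.symm p, ?_, e.apply_symm_apply p⟩
      by_contra hn
      exact (Finset.mem_filter.1 hp).2 (if_neg hn)
    · rintro ⟨a, ha, rfl⟩
      refine Finset.mem_filter.2 ⟨Finset.mem_univ _, ?_⟩
      show (if e.symm (e a) ∈ s then (1 : ZMod 2) else 0) ≠ 0
      rw [e.symm_apply_apply, if_pos ha]
      exact one_ne_zero
  constructor
  · rintro ⟨w, hw, hws⟩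
    have hw' : w = fun p => toW s (e.symm p) := by
      rw [← word_mask w, ← word_mask fun p => toW s (e.symm p), hsupp, hws]
    have := (he w).1 hw
    rw [hw'] at this
    simpa using this
  · intro hs
    refine ⟨fun p => toW s (e.symm p), (he _).2 (by simpa using hs), hsupp⟩

end Cfsg.Agent.Lib.Code24
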