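import Cfsg.Agent.Lib.Code24.SpanCode
import Cfsg.Agent.Lib.Steiner.Mathieu

/-! # Sets meeting every block of a large Steiner system with one parity -/

set_option autoImplicit false
set_option maxRecDepth 100000
set_option maxHeartbeats 2000000

namespace Cfsg.Agent.Lib.Code24

open Finset

variable {α : Type*} [Fintype α] [DecidableEq α] {B : Set (Finset α)}

/-- The number of blocks meeting a set in a given number of points. -/
noncomputable def meets (B : Set (Finset α)) (V : Finset α) (j : ℕ) : ℕ :=
  ((Steiner.blocks B).filter fun c => (V ∩ c).card = j).card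

theorem meets_zero {V : Finset α} {j : ℕ} (h : ∀ c ∈ B, (V ∩ c).card ≠ j) : meets B V j = 0 := by
  rw [meets, Finset.card_eq_zero, Finset.filter_eq_empty_iff]
  exact fun c hc => h c (Steiner.mem_blocks.1 hc)

theorem moment_eq {t k : ℕ} (hB : Cfsg.IsSteinerSystem t k B) (V : Finset α) {i lam : ℕ}
    (hi : i ≤ t) (hkt : t ≤ k)
    (h : lam * Nat.choose (k - i) (t - i) = Nat.choose (Fintype.card α - i) (t - i)) :
    ∑ j ∈ Finset.range (k + 1), meets B V j * Nat.choose j i = Nat.choose V.card i * lam := by
  rw [← Steiner.moment hB V hi hkt h]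
  refine (Steiner.sum_by_size V (fun j => Nat.choose j i) fun c hc => ?_).symm
  have := Finset.card_le_card (Finset.inter_subset_right (s₁ := V) (s₂ := c))
  rw [hB.1 c (Steiner.mem_blocks.1 hc)] at this
  omega

/-- In S(5,8,24) no set of one to seven points meets every block evenly. -/
theorem detect24 (hα : Fintype.card α = 24) (hB : Cfsg.IsSteinerSystem 5 8 B) {V : Finset α}
    (h0 : V.Nonempty) (h7 : V.card ≤ 7) : ∃ c ∈ B, ¬ 2 ∣ (V ∩ c).card := by
  by_contra! hall
  have z : ∀ j, ¬ 2 ∣ j → meets B V j = 0 := fun j hj =>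
    meets_zero fun c hc e => hj (e ▸ hall c hc)
  have m0 := moment_eq hB V (i := 0) (lam := 759) (by norm_num) (by norm_num) (by rw [hα]; decide)
  have m1 := moment_eq hB V (i := 1) (lam := 253) (by norm_num) (by norm_num) (by rw [hα]; decide)
  have m2 := moment_eq hB V (i := 2) (lam := 77) (by norm_num) (by norm_num) (by rw [hα]; decide)
  have m3 := moment_eq hB V (i := 3) (lam := 21) (by norm_num) (by norm_num) (by rw [hα]; decide)
  have m4 := moment_eq hB V (i := 4) (lam := 5) (by norm_num) (by norm_num) (by rw [hα]; decide)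
  have m5 := moment_eq hB V (i := 5) (lam := 1) (by norm_num) (by norm_num) (by rw [hα]; decide)
  have hpos : 0 < V.card := h0.card_pos
  simp only [Nat.reduceAdd, Finset.sum_range_succ, Finset.sum_range_zero, z 1 (by norm_num),
    z 3 (by norm_num), z 5 (by norm_num), z 7 (by norm_num), zero_mul, add_zero, zero_add]
    at m0 m1 m2 m3 m4 m5
  generalize V.card = n at *
  interval_cases n <;> norm_num [Nat.choose] at m0 m1 m2 m3 m4 m5 <;> omega

/-- In S(4,7,23) a nonempty set meeting every block evenly has at least eight points. -/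
theorem detect23_even (hα : Fintype.card α = 23) (hB : Cfsg.IsSteinerSystem 4 7 B) {V : Finset α}
    (h0 : V.Nonempty) (h7 : V.card ≤ 7) : ∃ c ∈ B, ¬ 2 ∣ (V ∩ c).card := by
  by_contra! hall
  have z : ∀ j, ¬ 2 ∣ j → meets B V j = 0 := fun j hj =>
    meets_zero fun c hc e => hj (e ▸ hall c hc)
  have m0 := moment_eq hB V (i := 0) (lam := 253) (by norm_num) (by norm_num) (by rw [hα]; decide)
  have m1 := moment_eq hB V (i := 1) (lam := 77) (by norm_num) (by norm_num) (by rw [hα]; decide)
  have m2 := moment_eq hB V (i := 2) (lam := 21) (by norm_num) (by norm_num) (by rw [hα]; decide)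
  have m3 := moment_eq hB V (i := 3) (lam := 5) (by norm_num) (by norm_num) (by rw [hα]; decide)
  have m4 := moment_eq hB V (i := 4) (lam := 1) (by norm_num) (by norm_num) (by rw [hα]; decide)
  have hpos : 0 < V.card := h0.card_pos
  simp only [Nat.reduceAdd, Finset.sum_range_succ, Finset.sum_range_zero, z 1 (by norm_num),
    z 3 (by norm_num), z 5 (by norm_num), z 7 (by norm_num), zero_mul, add_zero, zero_add]
    at m0 m1 m2 m3 m4
  generalize V.card = n at *
  interval_cases n <;> norm_num [Nat.choose] at m0 m1 m2 m3 m4 <;> omega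

/-- In S(4,7,23) a set meeting every block oddly has at least seven points. -/
theorem detect23_odd (hα : Fintype.card α = 23) (hB : Cfsg.IsSteinerSystem 4 7 B) {V : Finset α}
    (h6 : V.card ≤ 6) : ∃ c ∈ B, 2 ∣ (V ∩ c).card := by
  by_contra! hall
  have z : ∀ j, 2 ∣ j → meets B V j = 0 := fun j hj =>
    meets_zero fun c hc e => hall c hc (e ▸ hj)
  have m0 := moment_eq hB V (i := 0) (lam := 253) (by norm_num) (by norm_num) (by rw [hα]; decide)
  have m1 := moment_eq hB V (i := 1) (lam := 77) (by norm_num) (by norm_num) (by rw [hα]; decide)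
  have m2 := moment_eq hB V (i := 2) (lam := 21) (by norm_num) (by norm_num) (by rw [hα]; decide)
  have m3 := moment_eq hB V (i := 3) (lam := 5) (by norm_num) (by norm_num) (by rw [hα]; decide)
  have m4 := moment_eq hB V (i := 4) (lam := 1) (by norm_num) (by norm_num) (by rw [hα]; decide)
  simp only [Nat.reduceAdd, Finset.sum_range_succ, Finset.sum_range_zero, z 0 (by norm_num),
    z 2 (by norm_num), z 4 (by norm_num), z 6 (by norm_num), zero_mul, add_zero, zero_add]
    at m0 m1 m2 m3 m4
  generalize V.card = n at *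
  interval_cases n <;> norm_num [Nat.choose] at m0 m1 m2 m3 m4 <;> omega

/-- In S(3,6,22) a set of at most seven points meeting every block evenly is empty or a block. -/
theorem detect22_even (hα : Fintype.card α = 22) (hB : Cfsg.IsSteinerSystem 3 6 B) {V : Finset α}
    (h0 : V.Nonempty) (h7 : V.card ≤ 7) (hall : ∀ c ∈ B, 2 ∣ (V ∩ c).card) : V ∈ B := by
  have z : ∀ j, ¬ 2 ∣ j → meets B V j = 0 := fun j hj =>
    meets_zero fun c hc e => hj (e ▸ hall c hc)
  have m0 := moment_eq hB V (i := 0) (lam := 77) (by norm_num) (by norm_num) (by rw [hα]; decide)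
  have m1 := moment_eq hB V (i := 1) (lam := 21) (by norm_num) (by norm_num) (by rw [hα]; decide)
  have m2 := moment_eq hB V (i := 2) (lam := 5) (by norm_num) (by norm_num) (by rw [hα]; decide)
  have m3 := moment_eq hB V (i := 3) (lam := 1) (by norm_num) (by norm_num) (by rw [hα]; decide)
  have hpos : 0 < V.card := h0.card_pos
  simp only [Nat.reduceAdd, Finset.sum_range_succ, Finset.sum_range_zero, z 1 (by norm_num),
    z 3 (by norm_num), z 5 (by norm_num), zero_mul, add_zero, zero_add]
    at m0 m1 m2 m3
  have h6 : V.card = 6 ∧ 0 < meets B V 6 := by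
    generalize V.card = n at *
    interval_cases n <;> norm_num [Nat.choose] at m0 m1 m2 m3 <;> omega
  obtain ⟨c, hc⟩ := Finset.card_pos.1 h6.2
  obtain ⟨hc, hc6⟩ := Finset.mem_filter.1 hc
  have hcB := Steiner.mem_blocks.1 hc
  have e1 : V ∩ c = V := Finset.eq_of_subset_of_card_le Finset.inter_subset_left (by omega)
  have e2 : V = c := Finset.eq_of_subset_of_card_le (e1 ▸ Finset.inter_subset_right)
    (by rw [hB.1 c hcB]; omega)
  exact e2 ▸ hcB

/-- In S(3,6,22) a set meeting every block oddly has seven, eleven or fifteen points. -/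
theorem detect22_odd (hα : Fintype.card α = 22) (hB : Cfsg.IsSteinerSystem 3 6 B) {V : Finset α}
    (hall : ∀ c ∈ B, ¬ 2 ∣ (V ∩ c).card) : V.card = 7 ∨ V.card = 11 ∨ V.card = 15 := by
  have z : ∀ j, 2 ∣ j → meets B V j = 0 := fun j hj =>
    meets_zero fun c hc e => hall c hc (e ▸ hj)
  have m0 := moment_eq hB V (i := 0) (lam := 77) (by norm_num) (by norm_num) (by rw [hα]; decide)
  have m1 := moment_eq hB V (i := 1) (lam := 21) (by norm_num) (by norm_num) (by rw [hα]; decide)
  have m2 := moment_eq hB V (i := 2) (lam := 5) (by norm_num) (by norm_num) (by rw [hα]; decide)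
  have m3 := moment_eq hB V (i := 3) (lam := 1) (by norm_num) (by norm_num) (by rw [hα]; decide)
  simp only [Nat.reduceAdd, Finset.sum_range_succ, Finset.sum_range_zero, z 0 (by norm_num),
    z 2 (by norm_num), z 4 (by norm_num), z 6 (by norm_num), zero_mul, add_zero, zero_add]
    at m0 m1 m2 m3
  have hle : V.card ≤ 22 := hα ▸ Finset.card_le_univ V
  generalize V.card = n at *
  interval_cases n <;> norm_num [Nat.choose_eq_factorial_div_factorial, Nat.factorial, show Nat.choose 1 3 = 0 by decide, show Nat.choose 1 2 = 0 by decide] at m0 m1 m2 m3 <;> omega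

end Cfsg.Agent.Lib.Code24
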