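import Cfsg.Agent.Lib.Code24.Frame
import Cfsg.Agent.Lib.Golay.Orbit
import Cfsg.Agent.Lib.Golay.StarData

/-! # The code of length 24 is unique -/

set_option autoImplicit false
set_option maxRecDepth 100000

namespace Cfsg.Agent.Lib.Code24

open Finset Cfsg Cfsg.Agent.Lib.Golay

/-- The forms whose cosets of affine functions have no word of weight below six. -/
def goodForm (v : ℕ) : Bool := (List.range 32).all fun k => Nat.ble 6 (pc (qfm v ^^^ afm k))

/-- The good forms, in increasing order. -/
def goodList : List ℕ := (List.range 64).filter goodForm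

/-- Each element with the later elements compatible with it. -/
def heads : List ℕ → List (ℕ × List ℕ)
  | [] => []
  | a :: r => (a, r.filter fun b => goodForm (a ^^^ b)) :: heads r

/-- The pairwise compatible sublists of a given length. -/
def cliques : ℕ → List ℕ → List (List ℕ)
  | 0, _ => [[]]
  | n + 1, cs => (heads cs).flatMap fun e => (cliques n e.2).map (List.cons e.1)

theorem mem_heads {x : ℕ} : ∀ {cs : List ℕ}, cs.Pairwise (· < ·) → x ∈ cs →
    ∃ r, (x, r) ∈ heads cs ∧ r.Pairwise (· < ·) ∧
      ∀ y ∈ cs, x < y → goodForm (x ^^^ y) = true → y ∈ r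
  | [], _, hx => absurd hx List.not_mem_nil
  | a :: r, hp, hx => by
    obtain ⟨ha, hr⟩ := List.pairwise_cons.1 hp
    rcases List.mem_cons.1 hx with e | hx'
    · subst e
      refine ⟨_, List.mem_cons_self .., hr.filter _, fun y hy hlt hg => ?_⟩
      exact List.mem_filter.2 ⟨(List.mem_cons.1 hy).resolve_left (ne_of_gt hlt), hg⟩
    · obtain ⟨r', h1, h2, h3⟩ := mem_heads hr hx'
      refine ⟨r', List.mem_cons_of_mem _ h1, h2, fun y hy hlt hg => ?_⟩
      rcases List.mem_cons.1 hy with e | hy
      · subst e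
        have := ha x hx'
        omega
      · exact h3 y hy hlt hg

theorem mem_cliques : ∀ (L cs : List ℕ), cs.Pairwise (· < ·) → L.Pairwise (· < ·) →
    (∀ x ∈ L, x ∈ cs) → L.Pairwise (fun a b => goodForm (a ^^^ b) = true) →
    L ∈ cliques L.length cs
  | [], _, _, _, _, _ => by simp [cliques]
  | x :: L, cs, hcs, hL, h, hg => by
    obtain ⟨hx1, hL'⟩ := List.pairwise_cons.1 hL
    obtain ⟨hg1, hg'⟩ := List.pairwise_cons.1 hg
    obtain ⟨r, hr, hrp, hrm⟩ := mem_heads hcs (h x List.mem_cons_self)
    rw [List.length_cons, cliques, List.mem_flatMap]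
    refine ⟨_, hr, List.mem_map.2 ⟨L, mem_cliques L r hrp hL' (fun y hy => ?_) hg', rfl⟩⟩
    exact hrm y (h y (List.mem_cons_of_mem _ hy)) (hx1 y hy) (hg1 y hy)

theorem stars_eq : cliques 7 goodList = starCerts.map Prod.fst := by decide +kernel

/-- The generators of the code in standard coordinates. -/
def frameGens (L : List ℕ) : List ℕ :=
  ((List.range 7).map fun i => 1 ||| 1 <<< (i + 1) ||| qfm (L.getD i 0) <<< 8) ++
    (List.range 32).map fun k => afm k <<< 8

theorem certs_ok : (starCerts.all fun c =>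
    valid c.2 && (frameGens c.1).all fun g => isCode (act c.2 g)) = true := by decide +kernel

theorem qfm_xor : ∀ v < 64, ∀ w < 64, qfm v ^^^ qfm w = qfm (v ^^^ w) := by decide +kernel

theorem afm_xor : ∀ j < 32, ∀ k < 32, afm j ^^^ afm k = afm (j ^^^ k) := by decide +kernel

theorem qfm_lt : ∀ v < 64, qfm v < 65536 := by decide +kernel

/-- The syndrome against the affine functions. -/
def syn (m : ℕ) : ℕ :=
  pc (m &&& afm 1) % 2 + 2 * (pc (m &&& afm 2) % 2) + 4 * (pc (m &&& afm 4) % 2) +
    8 * (pc (m &&& afm 8) % 2) + 16 * (pc (m &&& afm 16) % 2)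

/-- The list of quadratic functions. -/
def rmKeys : ℕ :=
  keys id ((List.range 64).flatMap fun v => (List.range 32).map fun k => qfm v ^^^ afm k)

theorem rm_table : ((List.range 256).all fun lo => (List.range 256).all fun hi =>
    syn lo != syn (hi <<< 8) || (rmKeys >>> (hi <<< 8 ||| lo)) &&& 1 == 1) = true := by
  decide +kernel

theorem pc_and_split (m a : ℕ) (hm : m < 65536) :
    pc (m &&& a) = pc ((m % 256) &&& a) + pc ((m / 256 * 256) &&& a) := by
  rw [← card_toSet, ← card_toSet, ← card_toSet, ← Finset.card_union_of_disjoint]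
  · congr 1
    rw [← toSet_or]
    congr 1
    apply Nat.eq_of_testBit_eq
    intro i
    simp only [Nat.testBit_and, Nat.testBit_or, show (256 : ℕ) = 2 ^ 8 from rfl,
      Nat.testBit_mod_two_pow, Nat.testBit_mul_two_pow, Nat.testBit_div_two_pow]
    by_cases h : i < 8
    · simp [h, Nat.not_le.2 h]
    · simp [h, Nat.not_lt.1 h, Nat.sub_add_cancel (Nat.not_lt.1 h)]
  · rw [Finset.disjoint_left]
    intro p h1 h2
    simp only [mem_toSet, Nat.testBit_and, show (256 : ℕ) = 2 ^ 8 from rfl,
      Nat.testBit_mod_two_pow, Nat.testBit_mul_two_pow, Bool.and_eq_true, decide_eq_true_eq]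
      at h1 h2
    omega

theorem exists_quadratic {m : ℕ} (hm : m < 65536) (h : ∀ k < 32, pc (m &&& afm k) % 2 = 0) :
    ∃ v < 64, ∃ k < 32, qfm v ^^^ afm k = m := by
  have hs : syn (m % 256) = syn ((m / 256) <<< 8) := by
    have key : ∀ k < 32, pc ((m % 256) &&& afm k) % 2 = pc (((m / 256) <<< 8) &&& afm k) % 2 := by
      intro k hk
      have := h k hk
      rw [pc_and_split m _ hm] at this
      rw [Nat.shiftLeft_eq, show (2 : ℕ) ^ 8 = 256 from rfl]
      omega
    simp only [syn]
    rw [key 1 (by norm_num), key 2 (by norm_num), key 4 (by norm_num), key 8 (by norm_num),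
      key 16 (by norm_num)]
  have := List.all_eq_true.1 (List.all_eq_true.1 rm_table (m % 256)
    (List.mem_range.2 (Nat.mod_lt _ (by norm_num)))) (m / 256) (List.mem_range.2 (by omega))
  simp only [Bool.or_eq_true, bne_iff_ne, ne_eq, hs, not_true_eq_false, false_or, beq_iff_eq,
    shift_and_one] at this
  rw [← Nat.shiftLeft_add_eq_or_of_lt (Nat.mod_lt _ (by norm_num : 0 < 256) : m % 256 < 2 ^ 8),
    Nat.shiftLeft_eq, show m / 256 * 2 ^ 8 + m % 256 = m by norm_num; omega] at this
  obtain ⟨a, ha, rfl⟩ := (testBit_keys id _ m).1 this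
  simp only [List.mem_flatMap, List.mem_map, List.mem_range] at ha
  obtain ⟨v, hv, k, hk, rfl⟩ := ha
  exact ⟨v, hv, k, hk, rfl⟩

variable {C : Submodule (ZMod 2) W}

/-- Membership of a coded word in standard coordinates. -/
def inC (C : Submodule (ZMod 2) W) (e : GolayPt ≃ Fin 24) (m : ℕ) : Prop :=
  (fun a => word m (e.symm a)) ∈ C

theorem inC_xor {e : GolayPt ≃ Fin 24} {a b : ℕ} (ha : inC C e a) (hb : inC C e b) :
    inC C e (a ^^^ b) := by
  show (fun x => word (a ^^^ b) (e.symm x)) ∈ C
  rw [word_xor]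
  exact C.add_mem ha hb

theorem norm_perm (e : GolayPt ≃ Fin 24) (m : ℕ) :
    hammingNorm (fun a => word m (e.symm a)) = pc m := by
  rw [← hammingNorm_word, hammingNorm, hammingNorm]
  refine Finset.card_equiv e.symm fun a => ?_
  simp

theorem inC_even {e : GolayPt ≃ Fin 24} (h : IsGolay C) {a b : ℕ} (ha : inC C e a)
    (hb : inC C e b) : pc (a &&& b) % 2 = 0 := by
  have := h.orth _ ha _ hb
  rw [show (∑ i, word a (e.symm i) * word b (e.symm i)) = ∑ p, word a p * word b p from
    Equiv.sum_comp e.symm (fun p => word a p * word b p)] at this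
  rw [show ∑ p, word a p * word b p = ((pc (a &&& b) : ℕ) : ZMod 2) by
    rw [← card_toSet, Finset.card_eq_sum_ones, Nat.cast_sum]
    rw [← Finset.sum_filter_add_sum_filter_not Finset.univ (fun p => p ∈ toSet (a &&& b))]
    rw [Finset.filter_univ_mem, Finset.sum_eq_zero (s := Finset.filter _ _) (fun p hp => by
      simp only [Finset.mem_filter, mem_toSet, Nat.testBit_and, Bool.and_eq_true, not_and] at hp
      by_cases h1 : a.testBit (ix p) = true
      · simp [word, hp.2 h1]
      · simp [word, h1]), add_zero]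
    refine Finset.sum_congr rfl fun p hp => ?_
    simp only [mem_toSet, Nat.testBit_and, Bool.and_eq_true] at hp
    simp [word, hp.1, hp.2]] at this
  rw [ZMod.natCast_eq_zero_iff_even, Nat.even_iff] at this
  exact this

theorem bit_one (a j : ℕ) : (1 <<< a).testBit j = decide (a = j) := by
  rw [Nat.one_shiftLeft, Nat.testBit_two_pow]

theorem one_bit (j : ℕ) : Nat.testBit 1 j = decide (0 = j) := by
  rw [show (1 : ℕ) = 2 ^ 0 from rfl, Nat.testBit_two_pow]

theorem word_and_split {p : GolayPt} {a b : ℕ} (ha : a < 256) :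
    word (a ||| b <<< 8) p = word a p + word (b <<< 8) p := by
  simp only [word, Nat.testBit_or, Nat.testBit_shiftLeft]
  by_cases h : 8 ≤ ix p
  · have : a.testBit (ix p) = false := Nat.testBit_lt_two_pow
      (lt_of_lt_of_le ha (by rw [show (256 : ℕ) = 2 ^ 8 from rfl]; exact Nat.pow_le_pow_right (by norm_num) h))
    simp [this]
  · simp [h]

theorem xor_shift {a b x y : ℕ} (ha : a < 256) (hb : b < 256) :
    (a ||| x <<< 8) ^^^ (b ||| y <<< 8) = (a ^^^ b) ||| (x ^^^ y) <<< 8 := by
  apply Nat.eq_of_testBit_eq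
  intro i
  simp only [Nat.testBit_xor, Nat.testBit_or, Nat.testBit_shiftLeft]
  by_cases h : 8 ≤ i
  · have hlt : ∀ c < 256, c.testBit i = false := fun c hc => Nat.testBit_lt_two_pow
      (lt_of_lt_of_le hc (by rw [show (256 : ℕ) = 2 ^ 8 from rfl]; exact Nat.pow_le_pow_right (by norm_num) h))
    simp [h, hlt a ha, hlt b hb]
  · simp [h]

theorem pc_split : ∀ a < 256, ∀ b, b < 65536 → pc (a ||| b <<< 8) = pc a + pc b := by
  intro a ha b hb
  rw [← card_toSet, toSet_or, Finset.card_union_of_disjoint, card_toSet, card_toSet]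
  · congr 1
    have h1 : ∀ j, ((b <<< 8) >>> j) &&& 15 = if 8 ≤ j then (b >>> (j - 8)) &&& 15
        else ((b <<< 8) >>> j) &&& 15 := by
      intro j
      split
      · apply Nat.eq_of_testBit_eq
        intro i
        simp only [Nat.testBit_and, Nat.testBit_shiftRight, Nat.testBit_shiftLeft]
        rw [show j + i - 8 = j - 8 + i by omega]
        simp [show 8 ≤ j + i by omega]
      · rfl
    have z : ∀ j ∈ [0, 4], ((b <<< 8) >>> j) &&& 15 = 0 := by
      intro j hj
      apply Nat.eq_of_testBit_eq
      intro i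
      simp only [Nat.testBit_and, Nat.testBit_shiftRight, Nat.testBit_shiftLeft, Nat.zero_testBit,
        show (15 : ℕ) = 2 ^ 4 - 1 from rfl, Nat.testBit_two_pow_sub_one]
      simp only [List.mem_cons, List.not_mem_nil, or_false] at hj
      by_cases h : i < 4 <;> simp [h] <;> omega
    have z0 : (b <<< 8) &&& 15 = 0 := by simpa using z 0 (by simp)
    have hhi : ∀ j ∈ [16, 20], (b >>> j) &&& 15 = 0 := by
      intro j hj
      rw [Nat.shiftRight_eq_div_pow, Nat.div_eq_of_lt]
      · rfl
      · simp only [List.mem_cons, List.not_mem_nil, or_false] at hj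
        rcases hj with rfl | rfl <;> omega
    simp only [pc]
    rw [z0, z 4 (by simp), h1 8, h1 12, h1 16, h1 20, hhi 16 (by simp), hhi 20 (by simp)]
    simp only [show 8 ≤ 8 from le_rfl, show (8 : ℕ) ≤ 12 by norm_num, show (8 : ℕ) ≤ 16 by norm_num,
      show (8 : ℕ) ≤ 20 by norm_num, if_true, show (12 : ℕ) - 8 = 4 from rfl,
      show (16 : ℕ) - 8 = 8 from rfl, show (20 : ℕ) - 8 = 12 from rfl, show pc4 0 = 0 from rfl, Nat.sub_self,
      Nat.shiftRight_zero]
    omega
  · rw [Finset.disjoint_left]
    intro p h1 h2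
    simp only [mem_toSet, Nat.testBit_shiftLeft, Bool.and_eq_true, decide_eq_true_eq] at h1 h2
    have := Nat.testBit_lt_two_pow (lt_of_lt_of_le ha
      (Nat.pow_le_pow_right (by norm_num) h2.1 : 2 ^ 8 ≤ 2 ^ ix p))
    exact Bool.false_ne_true (this.symm.trans h1)

/-- A code with the parameters of the binary code of length 24 is equivalent to it. -/
theorem exists_equiv_golay (h : IsGolay C) :
    ∃ e : Fin 24 ≃ GolayPt, ∀ w : GolayPt → ZMod 2, w ∈ golayCode ↔ (fun i => w (e i)) ∈ C := by
  classical
  obtain ⟨e, haff, hK, hP, heven⟩ := exists_frame h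
  choose m hm hmC using fun i : Fin 7 => hP i i.2
  have hquad : ∀ i : Fin 7, ∃ v < 64, ∃ k < 32, qfm v ^^^ afm k = m i := by
    intro i
    refine exists_quadratic (hm i) fun k hk => ?_
    have := inC_even h (hmC i) (haff k hk)
    have hsplit : (1 ||| 1 <<< ((i : ℕ) + 1) ||| m i <<< 8) &&& afm k <<< 8 =
        (m i &&& afm k) <<< 8 := by
      apply Nat.eq_of_testBit_eq
      intro j
      simp only [Nat.testBit_and, Nat.testBit_or, bit_one]
      simp only [Nat.testBit_shiftLeft]
      by_cases hj : 8 ≤ j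
      · have h1 : Nat.testBit 1 j = false :=
          Nat.testBit_lt_two_pow (Nat.one_lt_two_pow (by omega))
        have h2 : i.1 + 1 < j := by omega
        simp [hj, h1, h2.ne]
      · simp [hj]
    rw [hsplit, show (m i &&& afm k) <<< 8 = 0 ||| (m i &&& afm k) <<< 8 by simp,
      pc_split 0 (by norm_num) _ (lt_of_le_of_lt Nat.and_le_left (hm i)), show pc 0 = 0 from rfl,
      zero_add] at this
    exact this
  choose v hv k hk hvk using hquad
  -- the generator with a pure quadratic part
  have hlow : ∀ i : Fin 7, 1 ||| 1 <<< ((i : ℕ) + 1) < 256 := by decide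
  have gen : ∀ i : Fin 7, inC C e (1 ||| 1 <<< ((i : ℕ) + 1) ||| qfm (v i) <<< 8) := by
    intro i
    have := inC_xor (hmC i) (haff (k i) (hk i))
    rw [← hvk i, show afm (k i) <<< 8 = 0 ||| afm (k i) <<< 8 by simp,
      xor_shift (hlow i) (by norm_num), Nat.xor_zero, Nat.xor_assoc, Nat.xor_self,
      Nat.xor_zero] at this
    exact this
  have hgood : ∀ (low : ℕ) (u : ℕ), u < 64 → low < 256 → pc low = 2 →
      inC C e (low ||| qfm u <<< 8) → goodForm u = true := by
    intro low u hu hlow h2 hC
    simp only [goodForm, List.all_eq_true, List.mem_range, Nat.ble_eq]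
    intro j hj
    have hw := inC_xor hC (haff j hj)
    rw [show afm j <<< 8 = 0 ||| afm j <<< 8 by simp, xor_shift hlow (by norm_num),
      Nat.xor_zero] at hw
    have hlt : qfm u ^^^ afm j < 65536 :=
      Nat.xor_lt_two_pow (n := 16) (qfm_lt u hu) (afm_lt j hj)
    have := h.min _ hw (fun e0 => by
      have hh := norm_perm e (low ||| (qfm u ^^^ afm j) <<< 8)
      rw [e0, hammingNorm_zero, pc_split _ hlow _ hlt] at hh
      omega)
    rw [norm_perm, pc_split _ hlow _ hlt] at this
    omega
  have hv1 : ∀ i, goodForm (v i) = true := fun i => hgood _ _ (hv i) (hlow i)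
    (by revert i; decide) (gen i)
  have hlow2 : ∀ i j : Fin 7, i ≠ j →
      (1 ||| 1 <<< ((i : ℕ) + 1)) ^^^ (1 ||| 1 <<< ((j : ℕ) + 1)) < 256 ∧
      pc ((1 ||| 1 <<< ((i : ℕ) + 1)) ^^^ (1 ||| 1 <<< ((j : ℕ) + 1))) = 2 := by decide
  have hv2 : ∀ i j, i ≠ j → goodForm (v i ^^^ v j) = true := by
    intro i j hij
    have := inC_xor (gen i) (gen j)
    rw [xor_shift (hlow i) (hlow j), qfm_xor _ (hv i) _ (hv j)] at this
    exact hgood _ _ (Nat.xor_lt_two_pow (n := 6) (hv i) (hv j)) (hlow2 i j hij).1
      (hlow2 i j hij).2 this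
  have hvinj : Function.Injective v := by
    intro i j he
    by_contra hne
    have := hv2 i j hne
    rw [he, Nat.xor_self] at this
    exact absurd this (by decide +kernel)
  set σ := Tuple.sort v with hσ
  have hmono : StrictMono (v ∘ σ) :=
    (Tuple.monotone_sort v).strictMono_of_injective (hvinj.comp σ.injective)
  set L := List.ofFn (v ∘ σ) with hL
  have hgs : goodList.Pairwise (· < ·) := List.pairwise_lt_range.filter _
  have hmem : L ∈ starCerts.map Prod.fst := by
    rw [← stars_eq, show (7 : ℕ) = L.length by simp [hL]]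
    refine mem_cliques _ _ hgs (List.pairwise_ofFn.2 fun i j hij => hmono hij) (fun x hx => ?_)
      (List.pairwise_ofFn.2 fun i j hij =>
        hv2 _ _ (fun e' => ne_of_lt hij (σ.injective e')))
    obtain ⟨i, rfl⟩ := List.mem_ofFn.1 hx
    exact List.mem_filter.2 ⟨List.mem_range.2 (hv _), hv1 _⟩
  obtain ⟨⟨L', π⟩, hc, hLe⟩ := List.mem_map.1 hmem
  simp only at hLe
  subst hLe
  have hcert := List.all_eq_true.1 certs_ok _ hc
  simp only [Bool.and_eq_true, List.all_eq_true] at hcert
  obtain ⟨hπv, hπ⟩ := hcert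
  -- relabel the octad by the sorting permutation
  let τ : GolayPt ≃ GolayPt :=
    Equiv.ofBijective (fun p => if hp : 1 ≤ ix p ∧ ix p ≤ 7
      then pt ((σ ⟨ix p - 1, by omega⟩ : Fin 7) + 1) else p) (by
      refine Finite.injective_iff_bijective.1 fun p q hpq => ?_
      split_ifs at hpq with hp hq hq
      · have h' := congrArg ix hpq
        rw [ix_pt (by omega), ix_pt (by omega), Nat.add_right_cancel_iff, Fin.val_inj,
          σ.injective.eq_iff, Fin.ext_iff] at h'
        apply ix_inj
        simp only at h'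
        omega
      · have h' := congrArg ix hpq
        rw [ix_pt (by omega)] at h'
        omega
      · have h' := congrArg ix hpq
        rw [ix_pt (by omega)] at h'
        omega
      · exact hpq)
  have τix : ∀ p, ix (τ p) = if hp : 1 ≤ ix p ∧ ix p ≤ 7
      then (σ ⟨ix p - 1, by omega⟩ : ℕ) + 1 else ix p := by
    intro p
    show ix (if hp : 1 ≤ ix p ∧ ix p ≤ 7 then _ else p) = _
    split
    · rw [ix_pt (by omega)]
    · rfl
  let E : Fin 24 ≃ GolayPt := e.symm.trans (τ.symm.trans (toPerm π))
  refine ⟨E, ?_⟩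
  have hsub : ∀ c ∈ C, (fun p => c (E.symm p)) ∈ golayCode := by
    let M : Submodule (ZMod 2) W :=
      golayCode.comap (LinearMap.funLeft (ZMod 2) (ZMod 2) E.symm)
    suffices hM : ∀ c ∈ C, c ∈ M from hM
    have hgenM : ∀ g ∈ frameGens (List.ofFn (v ∘ σ)), (fun a => word g (τ.symm (e.symm a))) ∈ M := by
      intro g hg
      show (fun p => word g (τ.symm (e.symm (E.symm p)))) ∈ golayCode
      have hwact : ∀ p, word g ((toPerm π).symm p) = word (act π g) p := by
        intro p
        have hs := smul_toSet hπv g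
        have h1 : p ∈ toSet (act π g) ↔ (toPerm π).symm p ∈ toSet g := by
          rw [← hs, ← Finset.inv_smul_mem_iff]; rfl
        simp only [mem_toSet] at h1
        simp [word, h1]
      have he : (fun p => word g (τ.symm (e.symm (E.symm p)))) = word (act π g) := by
        funext p
        rw [← hwact p]
        congr 1
        show τ.symm (e.symm (e (τ ((toPerm π).symm p)))) = _
        simp
      rw [he]
      exact (word_mem_iff (lt_of_isCode (hπ g hg))).2 (hπ g hg)
    have haffM : ∀ j < 32, (fun a => word (afm j <<< 8) (e.symm a)) ∈ M := by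
      intro j hj
      have := hgenM (afm j <<< 8) (List.mem_append_right _
        (List.mem_map.2 ⟨j, List.mem_range.2 hj, rfl⟩))
      convert this using 2 with a
      have hix := τix (τ.symm (e.symm a))
      rw [Equiv.apply_symm_apply] at hix
      simp only [word, Nat.testBit_shiftLeft]
      split_ifs at hix with hp
      · have h1 : ¬ 8 ≤ ix (τ.symm (e.symm a)) := by omega
        have h2 : ¬ 8 ≤ ix (e.symm a) := by omega
        simp [h1, h2]
      · rw [hix]
    have hpairM : ∀ i : Fin 7,
        (fun a => word (1 ||| 1 <<< ((i : ℕ) + 1) ||| qfm (v i) <<< 8) (e.symm a)) ∈ M := by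
      intro i
      obtain ⟨j, rfl⟩ := σ.surjective i
      have hg : 1 ||| 1 <<< ((j : ℕ) + 1) ||| qfm ((List.ofFn (v ∘ σ)).getD j 0) <<< 8 ∈
          frameGens (List.ofFn (v ∘ σ)) :=
        List.mem_append_left _ (List.mem_map.2 ⟨j, List.mem_range.2 j.2, rfl⟩)
      have hget : (List.ofFn (v ∘ σ)).getD j 0 = v (σ j) := by
        rw [List.getD_eq_getElem _ _ (by simp), List.getElem_ofFn]; rfl
      rw [hget] at hg
      have := hgenM _ hg
      convert this using 2 with a
      have hix := τix (τ.symm (e.symm a))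
      rw [Equiv.apply_symm_apply] at hix
      rw [word_and_split (hlow _), word_and_split (hlow _)]
      simp only [word, Nat.testBit_or, bit_one, one_bit]
      simp only [Nat.testBit_shiftLeft]
      split_ifs at hix with hp
      · set x : Fin 7 := ⟨ix (τ.symm (e.symm a)) - 1, by omega⟩ with hx
        have hval : ix (τ.symm (e.symm a)) = (x : ℕ) + 1 := by simp [hx]; omega
        have h1 : ¬ 8 ≤ ix (τ.symm (e.symm a)) := by omega
        have h2 : ¬ 8 ≤ ix (e.symm a) := by omega
        have h3 : (σ j : ℕ) + 1 = ix (e.symm a) ↔ (j : ℕ) + 1 = ix (τ.symm (e.symm a)) := by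
          rw [hix, hval, Nat.add_right_cancel_iff, Nat.add_right_cancel_iff, Fin.val_inj,
            Fin.val_inj, σ.injective.eq_iff]
        simp only [h1, h2, decide_false, Bool.false_and, Bool.false_eq_true, if_false, add_zero]
        rw [hix, hval] at h3 ⊢
        simp [Fin.val_inj, σ.injective.eq_iff]
      · rw [hix]
        have h1 : (σ j : ℕ) + 1 ≠ ix (τ.symm (e.symm a)) := by omega
        have h2 : (j : ℕ) + 1 ≠ ix (τ.symm (e.symm a)) := by omega
        simp [h1, h2]
    intro c hc
    let y : Fin 7 → ZMod 2 := fun i => c (e (pt ((i : ℕ) + 1)))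
    let G : Fin 7 → W := fun i a => word (1 ||| 1 <<< ((i : ℕ) + 1) ||| qfm (v i) <<< 8) (e.symm a)
    have hG : ∑ i, y i • G i ∈ C := Submodule.sum_mem _ fun i _ => C.smul_mem _ (gen i)
    have hGM : ∑ i, y i • G i ∈ M := Submodule.sum_mem _ fun i _ => M.smul_mem _ (hpairM i)
    set d := c + ∑ i, y i • G i with hd
    have hdC : d ∈ C := C.add_mem hc hG
    have hGv : ∀ (i : Fin 7) (p : GolayPt), ix p < 8 →
        G i (e p) = (if ix p = 0 then 1 else 0) + (if ix p = (i : ℕ) + 1 then 1 else 0) := by
      intro i p hp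
      simp only [G, e.symm_apply_apply, word, Nat.testBit_or, bit_one, one_bit]
      simp only [Nat.testBit_shiftLeft, ge_iff_le,
        show ¬ 8 ≤ ix p by omega, decide_false, Bool.false_and, Bool.or_false]
      by_cases h1 : ix p = 0
      · simp [h1]
      · by_cases h2 : ix p = (i : ℕ) + 1
        · simp [h1, h2]
        · simp [h1, h2, Ne.symm h1, Ne.symm h2]
    have hnz : ∀ p, 1 ≤ ix p → ix p < 8 → d (e p) = 0 := by
      intro p h1 h8
      set x : Fin 7 := ⟨ix p - 1, by omega⟩ with hx
      simp only [hd, Pi.add_apply, Finset.sum_apply, Pi.smul_apply, smul_eq_mul]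
      rw [Finset.sum_eq_single x]
      · rw [hGv x p h8, if_neg (by omega), if_pos (by simp [hx]; omega), zero_add, mul_one]
        have : pt ((x : ℕ) + 1) = p := by
          rw [show (x : ℕ) + 1 = ix p by simp [hx]; omega, pt_ix]
        simp only [y, this]
        exact CharTwo.add_self_eq_zero _
      · intro b _ hb
        rw [hGv b p h8, if_neg (by omega), if_neg, zero_add, mul_zero]
        intro e'
        exact hb (Fin.ext (by simp [hx]; omega))
      · simp
    have hd0 : ∀ p, ix p < 8 → d (e p) = 0 := by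
      intro p h8
      by_cases h1 : 1 ≤ ix p
      · exact hnz p h1 h8
      have := heven d hdC
      rw [Fin.sum_univ_succ, Finset.sum_eq_zero (s := Finset.univ), add_zero] at this
      · rw [← pt_ix p, show ix p = 0 by omega]; exact this
      · intro i _
        refine hnz _ ?_ ?_ <;> rw [ix_pt (by simp; omega)] <;> simp <;> omega
    obtain ⟨j, hj, hjd⟩ := hK d hdC hd0
    have hdM : d ∈ M := by
      have : d = fun a => word (afm j <<< 8) (e.symm a) := by
        funext a; rw [← hjd, e.apply_symm_apply]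
      rw [this]; exact haffM j hj
    have := M.sub_mem hdM hGM
    rwa [hd, add_sub_cancel_right] at this
  intro w
  refine ⟨fun hw => ?_, fun hw => by simpa using hsub _ hw⟩
  let f : W ≃ₗ[ZMod 2] (GolayPt → ZMod 2) := LinearEquiv.funCongrLeft (ZMod 2) (ZMod 2) E.symm
  have hle : C.map (f : W →ₗ[ZMod 2] GolayPt → ZMod 2) ≤ golayCode := by
    rintro _ ⟨c, hc, rfl⟩
    exact hsub c hc
  have heq := Submodule.eq_of_le_of_finrank_eq hle (by
    rw [LinearEquiv.finrank_map_eq, h.dim, code_finrank])
  rw [← heq] at hw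
  obtain ⟨c, hc, rfl⟩ := hw
  have : (fun i => (f : W →ₗ[ZMod 2] GolayPt → ZMod 2) c (E i)) = c := by
    funext i
    show c (E.symm (E i)) = c i
    rw [E.symm_apply_apply]
  rw [this]; exact hc

end Cfsg.Agent.Lib.Code24
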